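import Groth.Prelude.Def_DerCA
import Groth.Agent.TowerLib.EssConst

/-!
# Calculus of pro-isomorphisms
-/

set_option autoImplicit false
universe v v' u u'

open CategoryTheory CategoryTheory.Limits Opposite Groth.Agent.TowerLib.EssConst

namespace Groth.Agent.Der55.Pro

variable {C : Type u} [Category.{v} C] {D : Type u'} [Category.{v'} D] {X Y Z : ARSys.PS C}

theorem IsProIso.map {f : X ⟶ Y} (h : DerCA.IsProIso f) (F : C ⥤ D) :
    DerCA.IsProIso (Functor.whiskerRight f F) := fun n => by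
  obtain ⟨m, hm, b, h1, h2⟩ := h n
  exact ⟨m, hm, F.map b, (F.map_comp _ _).symm.trans (congrArg F.map h1),
    (F.map_comp _ _).symm.trans (congrArg F.map h2)⟩

theorem isProIso_of_isIso (f : X ⟶ Y) [∀ n, IsIso (f.app n)] : DerCA.IsProIso f := fun n =>
  ⟨n, le_rfl, inv (f.app (op n)), by rw [IsIso.hom_inv_id, tr_refl],
    by rw [IsIso.inv_hom_id, tr_refl]⟩

theorem IsProIso.comp {f : X ⟶ Y} {g : Y ⟶ Z} (hf : DerCA.IsProIso f) (hg : DerCA.IsProIso g) :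
    DerCA.IsProIso (f ≫ g) := fun n => by
  obtain ⟨m, hm, b, h1, h2⟩ := hf n
  obtain ⟨p, hp, c, h3, h4⟩ := hg m
  refine ⟨p, hm.trans hp, c ≫ b, ?_, ?_⟩
  · rw [NatTrans.comp_app, Category.assoc, reassoc_of% h3, ← tr_nat_assoc f hp, h1, tr_comp]
  · rw [NatTrans.comp_app, Category.assoc, reassoc_of% h2, tr_nat g hm, reassoc_of% h4, tr_comp]

/-- Cancellation on the left. -/
theorem IsProIso.of_comp {f : X ⟶ Y} {g : Y ⟶ Z} (hf : DerCA.IsProIso f)
    (hfg : DerCA.IsProIso (f ≫ g)) : DerCA.IsProIso g := fun n => by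
  obtain ⟨m, hm, c, h1, h2⟩ := hfg n
  obtain ⟨p, hp, b, -, h4⟩ := hf m
  rw [NatTrans.comp_app] at h1 h2
  refine ⟨p, hm.trans hp, ARSys.tr Z hp ≫ c ≫ f.app (op n), ?_, ?_⟩
  · rw [← tr_nat_assoc g hp, ← h4, Category.assoc]
    rw [Category.assoc] at h1
    rw [reassoc_of% h1, tr_nat f hm, reassoc_of% h4, tr_comp]
  · rw [Category.assoc, Category.assoc, h2, tr_comp]

theorem isProIso_iff_of_arrow_iso {X' Y' : ARSys.PS C} {f : X ⟶ Y} {f' : X' ⟶ Y'} (eX : X ≅ X')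
    (eY : Y ≅ Y') (w : eX.hom ≫ f' = f ≫ eY.hom) : DerCA.IsProIso f' ↔ DerCA.IsProIso f := by
  have key : ∀ {X Y X' Y' : ARSys.PS C} {f : X ⟶ Y} {f' : X' ⟶ Y'} (eX : X ≅ X') (eY : Y ≅ Y'),
      eX.hom ≫ f' = f ≫ eY.hom → DerCA.IsProIso f → DerCA.IsProIso f' := by
    intro X Y X' Y' f f' eX eY w h
    have : f' = eX.inv ≫ f ≫ eY.hom := by rw [← w, Iso.inv_hom_id_assoc]
    rw [this]
    exact IsProIso.comp (isProIso_of_isIso eX.inv) (IsProIso.comp h (isProIso_of_isIso eY.hom))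
  exact ⟨fun h => key eX.symm eY.symm (by simp only [Iso.symm_hom, Iso.inv_comp_eq]; rw [← Category.assoc, w]; simp) h, key eX eY w⟩

end Groth.Agent.Der55.Pro
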