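import Groth.Agent.Der55.Pro.KosIso
import Groth.Agent.Der55.Pro.Calc
import Groth.Agent.TowerLib.ProIso
import Groth.Agent.KFlatLib.ModuleFlat
import Groth.Prelude.Def_DTen

/-!
# `K ⊗^L A/I^n → K ⊗ A/I^n` is a pro-isomorphism
-/

set_option autoImplicit false
set_option linter.unusedVariables false
set_option linter.style.haveILetI false
universe u

open CategoryTheory CategoryTheory.Limits Opposite TensorProduct MonoidalCategory

attribute [local instance] HasDerivedCategory.standard

namespace Groth.Agent.Der55.Pro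

open Groth.Agent.Der55.Kun

variable {A : Type u} [CommRing A]

theorem vanishesOutside_tensor {K L : DRing.Cx A} {a b c d : ℤ} (hK : DRing.VanishesOutside K a b)
    (hL : ∀ j, j < c ∨ d < j → IsZero (L.X j)) (i : ℤ) (hi : i < a + c ∨ b + d < i) :
    IsZero ((HTor.tensorCx K L).homology i) := by
  haveI : Subsingleton ((HTor.tensorCx K L).X i) :=
    ⟨fun x y => sub_eq_zero.1 (eq_zero_of_comp (x - y) fun ij => by
      have := ij.2
      by_cases h : ij.1.1 < a ∨ b < ij.1.1
      · haveI := ModuleCat.subsingleton_of_isZero (hK _ h)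
        exact Subsingleton.elim _ _
      · haveI := ModuleCat.subsingleton_of_isZero (hL ij.1.2 (by omega))
        exact Subsingleton.elim _ _)⟩
  haveI : Subsingleton ((HTor.tensorCx K L).cycles i) := (iCycles_injective _ i).subsingleton
  haveI : Subsingleton ((HTor.tensorCx K L).homology i) :=
    (homologyπ_surjective (HTor.tensorCx K L) i).subsingleton
  exact ModuleCat.isZero_iff_subsingleton.2 ‹_›

/-- `Q (K ⊗ K(f^n)) → Q (K ⊗ A/(f^n))` is a pro-isomorphism. -/
theorem isProIso_Q_kTen [IsNoetherianRing A] {K : DRing.Cx A} (hfin : ∀ i, Module.Finite A (K.X i))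
    {a b : ℤ} (hab : DRing.VanishesOutside K a b) (fs : List A) :
    DerCA.IsProIso (Functor.whiskerRight (kTen K fs) DerivedCategory.Q) := by
  let r : ℤ := fs.length
  refine Groth.Agent.TowerLib.Amplitude.proIso (a - r) (b - (a - r)).toNat _ _ _
    (fun n i hi => ?_) (fun n i hi => ?_) fun i => ?_
  · exact (vanishesOutside_tensor hab (c := -r) (d := 0) (fun j hj => Koszul15.isZero_X _ _ j
      (by simp only [List.length_map]; omega)) i (by omega)).of_iso
      ((DerivedCategory.homologyFunctorFactors _ i).app _)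
  · exact (vanishesOutside_tensor hab (c := 0) (d := 0)
      (fun j hj => HomologicalComplex.isZero_single_obj_X _ _ _ _ (by omega)) i (by omega)).of_iso
      ((DerivedCategory.homologyFunctorFactors _ i).app _)
  · exact (isProIso_iff_of_arrow_iso
      (Functor.isoWhiskerLeft (kTS K fs) (DerivedCategory.homologyFunctorFactors _ i))
      (Functor.isoWhiskerLeft (kTQ K fs) (DerivedCategory.homologyFunctorFactors _ i)) (by
        ext n : 2
        exact ((DerivedCategory.homologyFunctorFactors (ModuleCat.{u} A) i).hom.naturality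
          ((kTen K fs).app n)).symm)).1 (isProIso_homology_kTen hfin hab fs i)

/-- The augmentation is a pro-isomorphism in `D(A)`. -/
theorem isProIso_Q_kνs [IsNoetherianRing A] (fs : List A) :
    DerCA.IsProIso (Functor.whiskerRight (kνs fs) DerivedCategory.Q) := by
  have hfin : ∀ i, Module.Finite A ((𝟙_ (DRing.Cx A)).X i) := fun i => by
    by_cases hi : i = 0
    · subst hi
      exact Module.Finite.equiv
        (HomologicalComplex.singleObjXSelf (ComplexShape.up ℤ) 0 (𝟙_ (ModuleCat.{u} A))).toLinearEquiv.symm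
    · haveI := ModuleCat.subsingleton_of_isZero
        (HomologicalComplex.isZero_single_obj_X (ComplexShape.up ℤ) 0 (𝟙_ (ModuleCat.{u} A)) i hi)
      exact inferInstanceAs (Module.Finite A
        (((HomologicalComplex.single (ModuleCat.{u} A) (ComplexShape.up ℤ) 0).obj (𝟙_ _)).X i))
  have hab : DRing.VanishesOutside (𝟙_ (DRing.Cx A)) 0 0 := fun i hi =>
    HomologicalComplex.isZero_single_obj_X _ _ _ _ (by omega)
  have h := isProIso_Q_kTen hfin hab fs
  have h' : DerCA.IsProIso (Functor.whiskerRight (Functor.whiskerRight (kνs fs)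
      (tensorLeft (𝟙_ (DRing.Cx A)))) DerivedCategory.Q) := h
  refine (isProIso_iff_of_arrow_iso
    (Functor.isoWhiskerRight (Functor.isoWhiskerLeft (kW fs)
      (leftUnitorNatIso (DRing.Cx A))) DerivedCategory.Q)
    (Functor.isoWhiskerRight (Functor.isoWhiskerLeft
      (kQs fs ⋙ HomologicalComplex.single (ModuleCat.{u} A) (ComplexShape.up ℤ) 0)
      (leftUnitorNatIso (DRing.Cx A))) DerivedCategory.Q) ?_).2 h'
  ext n : 2
  exact (DerivedCategory.Q.map_comp _ _).symm.trans
    ((congrArg DerivedCategory.Q.map (MonoidalCategory.leftUnitor_naturality ((kνs fs).app n)).symm).trans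
      (DerivedCategory.Q.map_comp _ _))

/-- Koszul complexes are K-flat. -/
theorem isKFlat_kX (fs : List A) (n : ℕ) : DRing.IsKFlat A (kX fs n) :=
  KFlatLib.kFlat_of_termwiseFlat (b := 0)
    (fun i => haveI := (KRegLib.koszulCx_finiteFree (fs.map (· ^ (n + 1))) i).2; inferInstance)
    fun i hi => Koszul15.isZero_X _ _ i (.inl hi)

/-- The system `A/(f^{n+1}) ⟶ A/I^{n+1}`. -/
noncomputable def toAdic (I : Ideal A) (fs : List A) (hfs : ∀ f ∈ fs, f ∈ I) :
    ∀ n : ℕ, kQ fs n ⟶ (CohIII.adicSystem I (ModuleCat.of A A)).obj (op n) := fun n =>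
  ModuleCat.ofHom (Submodule.factor (show kJ fs n ≤ I ^ (n + 1) • (⊤ : Submodule A A) by
    rw [smul_eq_mul, Ideal.mul_top]
    refine Ideal.span_le.2 fun x hx => ?_
    obtain ⟨f, hf, rfl⟩ := List.mem_map.1 hx
    exact Ideal.pow_mem_pow (hfs f hf) _))

theorem ofOpSequence_factor_map {M : Type u} [AddCommGroup M] [Module A M] (P : ℕ → Submodule A M)
    (hP : ∀ n, P (n + 1) ≤ P n) {n m : ℕ} (h : n ≤ m) (x : M) :
    (Functor.ofOpSequence (X := fun n => ModuleCat.of A (M ⧸ P n))
      (fun n => ModuleCat.ofHom (Submodule.factor (hP n)))).map (homOfLE h).op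
        (Submodule.Quotient.mk x) = Submodule.Quotient.mk x := by
  induction m, h using Nat.le_induction with
  | base =>
    rw [show (homOfLE (le_refl n)).op = 𝟙 (op n) from rfl, CategoryTheory.Functor.map_id]
    rfl
  | succ m h ih =>
    rw [show (homOfLE (h.trans (Nat.le_succ m))).op = (homOfLE (Nat.le_succ m)).op ≫ (homOfLE h).op
      from rfl, Functor.map_comp, Functor.ofOpSequence_map_homOfLE_succ]
    exact ih

theorem adicSystem_map (I : Ideal A) {n m : ℕ} (h : n ≤ m) :
    (CohIII.adicSystem I (ModuleCat.of A A)).map (homOfLE h).op =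
      ModuleCat.ofHom (Submodule.factor (Submodule.smul_mono_left (N := (⊤ : Submodule A A))
        (Ideal.pow_le_pow_right (Nat.add_le_add_right h 1)))) := by
  refine ModuleCat.hom_ext (LinearMap.ext fun x => ?_)
  obtain ⟨x, rfl⟩ := Submodule.Quotient.mk_surjective _ x
  exact ofOpSequence_factor_map (M := (ModuleCat.of A A : ModuleCat.{u} A))
    (fun n => I ^ (n + 1) • (⊤ : Submodule A A))
    (fun n => Submodule.smul_mono_left (Ideal.pow_le_pow_right (Nat.le_succ (n + 1)))) h x

theorem toAdic_natural (I : Ideal A) (fs : List A) (hfs : ∀ f ∈ fs, f ∈ I) {n m : ℕ} (h : n ≤ m) :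
    (kQs fs).map (homOfLE h).op ≫ toAdic I fs hfs n =
      toAdic I fs hfs m ≫ (CohIII.adicSystem I (ModuleCat.of A A)).map (homOfLE h).op := by
  rw [adicSystem_map I h]
  exact ModuleCat.hom_ext (Submodule.linearMap_qext _ rfl)

/-- The comparison of systems. -/
noncomputable def toAdicNat (I : Ideal A) (fs : List A) (hfs : ∀ f ∈ fs, f ∈ I) :
    kQs fs ⟶ CohIII.adicSystem I (ModuleCat.of A A) where
  app n := toAdic I fs hfs n.unop
  naturality m n φ := toAdic_natural I fs hfs (leOfHom φ.unop)

theorem isProIso_toAdicNat (I : Ideal A) (fs : List A) (hI : Ideal.ofList fs = I) :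
    DerCA.IsProIso (toAdicNat I fs fun f hf => hI ▸ Ideal.subset_span hf) := by
  intro n
  have hfg : I.FG := by
    classical
    exact ⟨fs.toFinset, by rw [← hI]; simp [Ideal.ofList]⟩
  obtain ⟨k, hk⟩ := Ideal.exists_pow_le_of_le_radical_of_fg (J := kJ fs n) (show I ≤ (kJ fs n).radical by
    rw [← hI]
    exact Ideal.span_le.2 fun f hf => ⟨n + 1, Ideal.subset_span (List.mem_map.2 ⟨f, hf, rfl⟩)⟩) hfg
  refine ⟨max n k, le_max_left n k, ModuleCat.ofHom (Submodule.factor
    (show I ^ (max n k + 1) • (⊤ : Submodule A A) ≤ kJ fs n by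
      rw [smul_eq_mul, Ideal.mul_top]
      exact (Ideal.pow_le_pow_right (by omega)).trans hk)), ?_, ?_⟩
  · exact ModuleCat.hom_ext (Submodule.linearMap_qext _ rfl)
  · show _ = (CohIII.adicSystem I (ModuleCat.of A A)).map (homOfLE (le_max_left n k)).op
    rw [adicSystem_map]
    exact ModuleCat.hom_ext (Submodule.linearMap_qext _ rfl)

/-- The derived tensor product with a bounded complex of finite modules commutes with adic completion
up to pro-isomorphism. -/
theorem isProIso_εLeft [IsNoetherianRing A] [DTen.HasLTen A] [DTen.KFlatComputes A] (I : Ideal A)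
    (K : DRing.Cx A) (a b : ℤ) (hab : DRing.VanishesOutside K a b)
    (hfin : ∀ i : ℤ, Module.Finite A (K.X i)) :
    DerCA.IsProIso (Functor.whiskerLeft
      (CohIII.adicSystem I (ModuleCat.of A A) ⋙
        HomologicalComplex.single (ModuleCat.{u} A) (ComplexShape.up ℤ) 0)
      (DTen.εLeft A K)) := by
  obtain ⟨fs, hfs⟩ : ∃ fs : List A, Ideal.ofList fs = I := by
    obtain ⟨s, hs⟩ := IsNoetherian.noetherian I
    exact ⟨s.toList, by simp [Ideal.ofList, ← hs]⟩
  have hJ : DerCA.IsProIso (Functor.whiskerRight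
      (toAdicNat I fs fun f hf => hfs ▸ Ideal.subset_span hf)
      (HomologicalComplex.single (ModuleCat.{u} A) (ComplexShape.up ℤ) 0)) :=
    IsProIso.map (isProIso_toAdicNat I fs hfs) _
  let T := kQs fs ⋙ HomologicalComplex.single (ModuleCat.{u} A) (ComplexShape.up ℤ) 0
  let U := CohIII.adicSystem I (ModuleCat.of A A) ⋙
    HomologicalComplex.single (ModuleCat.{u} A) (ComplexShape.up ℤ) 0
  let j : T ⟶ U := Functor.whiskerRight
      (toAdicNat I fs fun f hf => hfs ▸ Ideal.subset_span hf)
      (HomologicalComplex.single (ModuleCat.{u} A) (ComplexShape.up ℤ) 0)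
  let F := DerivedCategory.Q ⋙ (DTen.LTen A).obj (DerivedCategory.Q.obj K)
  let G := tensorLeft K ⋙ DerivedCategory.Q
  let ε : F ⟶ G := DTen.εLeft A K
  haveI : ∀ n, IsIso ((Functor.whiskerLeft (kW fs) ε).app n) := fun n =>
    DTen.KFlatComputes.isIso_counit K (kX fs n.unop) (.inr (isKFlat_kX fs n.unop))
  have h1 : DerCA.IsProIso (Functor.whiskerLeft (kW fs) ε ≫ Functor.whiskerRight (kνs fs) G) :=
    IsProIso.comp (isProIso_of_isIso _) (isProIso_Q_kTen hfin hab fs)
  have h2 : DerCA.IsProIso (Functor.whiskerRight (kνs fs) F) :=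
    fun n => IsProIso.map (isProIso_Q_kνs fs) ((DTen.LTen A).obj (DerivedCategory.Q.obj K)) n
  have e1 : Functor.whiskerRight (kνs fs) F ≫ Functor.whiskerLeft T ε =
      Functor.whiskerLeft (kW fs) ε ≫ Functor.whiskerRight (kνs fs) G := by
    ext n : 2
    exact ε.naturality ((kνs fs).app n)
  have h3 : DerCA.IsProIso (Functor.whiskerLeft T ε) := IsProIso.of_comp h2 (by rw [e1]; exact h1)
  have e2 : Functor.whiskerRight j F ≫ Functor.whiskerLeft U ε =
      Functor.whiskerLeft T ε ≫ Functor.whiskerRight j G := by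
    ext n : 2
    exact ε.naturality (j.app n)
  exact IsProIso.of_comp (IsProIso.map hJ F)
    (by rw [e2]; exact IsProIso.comp h3 (IsProIso.map hJ G))

end Groth.Agent.Der55.Pro
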