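import Groth.Agent.Der55.Pro.Derived
import Groth.Agent.KFlatLib.Ring.Resolution
import Mathlib.Algebra.Homology.DerivedCategory.ShortExact

/-!
# `I^n M → M` factors through `I ⊗^L M → M`
-/

set_option autoImplicit false
set_option linter.style.haveILetI false
universe u

open CategoryTheory CategoryTheory.Limits Opposite TensorProduct MonoidalCategory Pretriangulated

attribute [local instance] HasDerivedCategory.standard

namespace Groth.Agent.Der55.Pro

open Groth.Agent.Der55.Kun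

variable {A : Type u} [CommRing A]

/-- A module as a complex in degree zero. -/
noncomputable abbrev sgl : ModuleCat.{u} A ⥤ DRing.Cx A :=
  HomologicalComplex.single (ModuleCat.{u} A) (ComplexShape.up ℤ) 0

/-- `P ⊗ A ≅ P`, through the symmetry. -/
noncomputable def eUnit (P : DRing.Cx A) : P ⊗ 𝟙_ (DRing.Cx A) ≅ P :=
  DTen.braidCx P (𝟙_ (DRing.Cx A)) ≪≫ λ_ P

theorem eUnit_natural {P P' : DRing.Cx A} (f : P ⟶ P') :
    f ▷ 𝟙_ (DRing.Cx A) ≫ (eUnit P').hom = (eUnit P).hom ≫ f := by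
  simp only [eUnit, Iso.trans_hom, Category.assoc]
  rw [← MonoidalCategory.tensorHom_id, reassoc_of% (DTen.braidCx_naturality f (𝟙 (𝟙_ (DRing.Cx A)))),
    MonoidalCategory.id_tensorHom, MonoidalCategory.leftUnitor_naturality]

theorem tensorHom_tm {K K' L L' : DRing.Cx A} (φ : K ⟶ K') (ψ : L ⟶ L') {i j : ℤ} (n : ℤ)
    (h : i + j = n) (x : K.X i) (y : L.X j) :
    (φ ⊗ₘ ψ).f n (tm K L n h x y) = tm K' L' n h (φ.f i x) (ψ.f j y) :=
  congrArg (fun g => g.hom (x ⊗ₜ[A] y)) (HomologicalComplex.ι_mapBifunctorMap φ ψ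
    (curriedTensor (ModuleCat.{u} A)) (ComplexShape.up ℤ) i j n h)

/-- A submodule of `J M` dies in `M ⊗ A/J`. -/
theorem tensorHom_eq_zero {M : ModuleCat.{u} A} (N : Submodule A M) (J : Submodule A A)
    (hN : N ≤ (Ideal.span (J : Set A)) • (⊤ : Submodule A M)) :
    (sgl.map (ModuleCat.ofHom N.subtype : ModuleCat.of A N ⟶ M)) ⊗ₘ
      (sgl.map (ModuleCat.ofHom J.mkQ : ModuleCat.of A A ⟶ ModuleCat.of A (A ⧸ J))) = 0 := by
  refine HomologicalComplex.hom_ext _ _ fun n =>
    ModuleCat.hom_ext (hom_ext_tm _ _ fun p q hpq x y => ?_)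
  rw [tensorHom_tm]
  by_cases hp : p = 0
  swap
  · haveI := ModuleCat.subsingleton_of_isZero
      (HomologicalComplex.isZero_single_obj_X (ComplexShape.up ℤ) 0 M p hp)
    rw [Subsingleton.elim ((sgl.map _).f p x) 0]
    simp [tm]
  by_cases hq : q = 0
  swap
  · haveI := ModuleCat.subsingleton_of_isZero
      (HomologicalComplex.isZero_single_obj_X (ComplexShape.up ℤ) 0 (ModuleCat.of A (A ⧸ J)) q hq)
    rw [Subsingleton.elim ((sgl.map _).f q y) 0]
    simp [tm]
  subst hp hq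
  let eM := HomologicalComplex.singleObjXSelf (ComplexShape.up ℤ) 0 M
  let eN := HomologicalComplex.singleObjXSelf (ComplexShape.up ℤ) 0 (ModuleCat.of A N)
  let eA := HomologicalComplex.singleObjXSelf (ComplexShape.up ℤ) 0 (ModuleCat.of A A)
  let eQ := HomologicalComplex.singleObjXSelf (ComplexShape.up ℤ) 0 (ModuleCat.of A (A ⧸ J))
  rw [HomologicalComplex.single_map_f_self, HomologicalComplex.single_map_f_self]
  show tm _ _ n hpq (eM.inv (N.subtype (eN.hom x))) (eQ.inv (J.mkQ (eA.hom y))) = _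
  have key : ∀ v ∈ (Ideal.span (J : Set A)) • (⊤ : Submodule A M), ∀ w : A ⧸ J,
      tm (sgl.obj M) (sgl.obj (ModuleCat.of A (A ⧸ J))) n hpq (eM.inv v) (eQ.inv w) = 0 := by
    intro v hv
    refine Submodule.smul_induction_on hv ?_ ?_
    · intro a ha v _ w
      obtain ⟨c, rfl⟩ := Submodule.Quotient.mk_surjective _ w
      have : a • (Submodule.Quotient.mk c : A ⧸ J) = 0 := by
        rw [← Submodule.Quotient.mk_smul, Submodule.Quotient.mk_eq_zero, smul_eq_mul, mul_comm]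
        have hJ : Ideal.span (J : Set A) = J := Ideal.span_eq J
        exact Ideal.mul_mem_left J c (hJ ▸ ha)
      rw [map_smul, tm, TensorProduct.smul_tmul, ← map_smul eQ.inv.hom, this, map_zero]
      simp
    · intro v v' hv hv' w
      rw [map_add, tm, TensorProduct.add_tmul, map_add]
      show tm _ _ n hpq _ _ + tm _ _ n hpq _ _ = 0
      rw [hv w, hv' w, add_zero]
  refine (key _ (hN (eN.hom x).2) _).trans ?_
  simp

variable (I : Ideal A)

/-- The projection `A → A/I^{n+1}`. -/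
noncomputable def πA (n : ℕ) :
    𝟙_ (DRing.Cx A) ⟶ sgl.obj ((CohIII.adicSystem I (ModuleCat.of A A)).obj (op n)) :=
  sgl.map (ModuleCat.ofHom (I ^ (n + 1) • (⊤ : Submodule A A)).mkQ :
    ModuleCat.of A A ⟶ (CohIII.adicSystem I (ModuleCat.of A A)).obj (op n))

theorem πA_tr {n m : ℕ} (h : n ≤ m) :
    πA I m ≫ sgl.map ((CohIII.adicSystem I (ModuleCat.of A A)).map (homOfLE h).op) = πA I n := by
  refine (Functor.map_comp _ _ _).symm.trans (congrArg _ ?_)
  rw [adicSystem_map I h]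
  exact ModuleCat.hom_ext (LinearMap.ext fun x => rfl)

/-- `0 → I → A → A/I → 0` as complexes. -/
noncomputable def idealSC : ShortComplex (ModuleCat.{u} A) :=
  ShortComplex.mk (ModuleCat.ofHom I.subtype : ModuleCat.of A I ⟶ ModuleCat.of A A)
    (ModuleCat.ofHom (I ^ (0 + 1) • (⊤ : Submodule A A)).mkQ :
      ModuleCat.of A A ⟶ (CohIII.adicSystem I (ModuleCat.of A A)).obj (op 0))
    (ModuleCat.hom_ext (LinearMap.ext fun x => (Submodule.Quotient.mk_eq_zero _).2
      (by rw [pow_one, smul_eq_mul, Ideal.mul_top]; exact x.2)))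

theorem idealSC_shortExact : (idealSC I).ShortExact where
  exact := (ShortComplex.ShortExact.moduleCat_exact_iff_function_exact _).2 fun x => by
    show Submodule.Quotient.mk x = 0 ↔ x ∈ Set.range I.subtype
    rw [Submodule.Quotient.mk_eq_zero]
    simp
    exact Iff.rfl
  mono_f := (ModuleCat.mono_iff_injective _).2 I.injective_subtype
  epi_g := (ModuleCat.epi_iff_surjective _).2 (Submodule.mkQ_surjective _)

theorem exists_factor [IsNoetherianRing A] [DTen.HasLTen A] [DTen.KFlatComputes A] (M : Type u)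
    [AddCommGroup M] [Module A M] [Module.Finite A M] :
    ∃ (n : ℕ) (_ : 0 < n)
      (g : DerivedCategory.Q.obj (sgl.obj (ModuleCat.of A ↥(I ^ n • (⊤ : Submodule A M)))) ⟶
        (DTen.LTen₂ A).obj (DerivedCategory.Q.obj (sgl.obj (ModuleCat.of A ↥I)),
          DerivedCategory.Q.obj (sgl.obj (ModuleCat.of A M)))),
      g ≫ (DTen.LTen₂ A).map (Prod.mkHom
              (DerivedCategory.Q.map (sgl.map (ModuleCat.ofHom I.subtype)))
              (𝟙 _)) ≫
          (DTen.unitL A).app (DerivedCategory.Q.obj (sgl.obj (ModuleCat.of A M))) =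
        DerivedCategory.Q.map (sgl.map
          (ModuleCat.ofHom (I ^ n • (⊤ : Submodule A M)).subtype)) := by
  let K : DRing.Cx A := sgl.obj (ModuleCat.of A M)
  let P : DRing.Cx A := (KFlatLib.ringCover A).P.obj K
  let ψ : P ⟶ K := (KFlatLib.ringCover A).ψ.app K
  haveI : QuasiIso ψ := (KFlatLib.ringCover A).quasiIso_ψ K
  haveI : IsIso (DerivedCategory.Q.map ψ) := (DerivedCategory.isIso_Q_map_iff_quasiIso _ _).2 inferInstance
  have hP : DRing.IsKFlat A P := KFlatLib.kFlat_ringRes K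
  have hPflat : DRing.TermwiseFlat P := fun i => (KFlatLib.ringCover A).flat_P K i
  have hfin : ∀ i, Module.Finite A (K.X i) := fun i => by
    by_cases hi : i = 0
    · subst hi
      exact Module.Finite.equiv
        (HomologicalComplex.singleObjXSelf (ComplexShape.up ℤ) 0 (ModuleCat.of A M)).toLinearEquiv.symm
    · haveI := ModuleCat.subsingleton_of_isZero
        (HomologicalComplex.isZero_single_obj_X (ComplexShape.up ℤ) 0 (ModuleCat.of A M) i hi)
      infer_instance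
  obtain ⟨m, hm, b, hb, -⟩ := isProIso_εLeft I K 0 0
    (fun i hi => HomologicalComplex.isZero_single_obj_X _ _ _ _ (by omega)) hfin 0
  let U : ℕ → DRing.Cx A := fun n => sgl.obj ((CohIII.adicSystem I (ModuleCat.of A A)).obj (op n))
  let τ : U m ⟶ U 0 := sgl.map ((CohIII.adicSystem I (ModuleCat.of A A)).map (homOfLE hm).op)
  have hb' : (DTen.εLeft A K).app (U m) ≫ b =
      (DTen.LTen₂ A).map (Prod.mkHom (𝟙 (DerivedCategory.Q.obj K)) (DerivedCategory.Q.map τ)) := hb
  let b' : DerivedCategory.Q.obj (K ⊗ U m) ⟶ DerivedCategory.Q.obj (P ⊗ U 0) :=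
    b ≫ (DTen.LTen₂ A).map (Prod.mkHom (inv (DerivedCategory.Q.map ψ)) (𝟙 _)) ≫ (DTen.εLeft A P).app (U 0)
  have hb'' : DerivedCategory.Q.map (ψ ▷ U m) ≫ b' = DerivedCategory.Q.map (P ◁ τ) := by
    haveI : IsIso ((DTen.εLeft A P).app (U m)) :=
      DTen.KFlatComputes.isIso_counit P (U m) (.inl hP)
    rw [← cancel_epi ((DTen.εLeft A P).app (U m))]
    have e1 : (DTen.εLeft A P).app (U m) ≫ DerivedCategory.Q.map (ψ ▷ U m) =
        (DTen.LTen₂ A).map (Prod.mkHom (DerivedCategory.Q.map ψ) (𝟙 _)) ≫ (DTen.εLeft A K).app (U m) := by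
      have e := (DTen.ε A).naturality (Prod.mkHom ψ (𝟙 (U m)))
      dsimp at e ⊢
      simpa [DTen.εLeft] using e.symm
    have e2 : (DTen.εLeft A P).app (U m) ≫ DerivedCategory.Q.map (P ◁ τ) =
        (DTen.LTen₂ A).map (Prod.mkHom (𝟙 _) (DerivedCategory.Q.map τ)) ≫ (DTen.εLeft A P).app (U 0) :=
      ((DTen.εLeft A P).naturality τ).symm
    rw [reassoc_of% e1, e2, reassoc_of% hb']
    rw [← Functor.map_comp_assoc, ← Functor.map_comp_assoc]
    congr 2
    refine Prod.ext ?_ ?_ <;> simp [Prod.mkHom]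
    exact Category.comp_id _
  let N := ModuleCat.of A ↥(I ^ (m + 1) • (⊤ : Submodule A M))
  let j : sgl.obj N ⟶ K := sgl.map (ModuleCat.ofHom (I ^ (m + 1) • (⊤ : Submodule A M)).subtype)
  have hkill : j ≫ (eUnit K).inv ≫ K ◁ πA I m = 0 := by
    have e : j ≫ (eUnit K).inv = (eUnit (sgl.obj N)).inv ≫ j ▷ 𝟙_ (DRing.Cx A) := by
      rw [Iso.comp_inv_eq, Category.assoc, eUnit_natural, Iso.inv_hom_id_assoc]
    rw [reassoc_of% e, ← MonoidalCategory.tensorHom_def]
    have h0 := tensorHom_eq_zero (M := ModuleCat.of A M) (I ^ (m + 1) • (⊤ : Submodule A M))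
      (I ^ (m + 1) • (⊤ : Submodule A A)) (by
        rw [Ideal.span_eq, smul_eq_mul, Ideal.mul_top])
    rw [show j ⊗ₘ πA I m = 0 from h0, comp_zero]
  let y₁ : DerivedCategory.Q.obj (sgl.obj N) ⟶ DerivedCategory.Q.obj (P ⊗ 𝟙_ (DRing.Cx A)) :=
    DerivedCategory.Q.map j ≫ inv (DerivedCategory.Q.map ψ) ≫ DerivedCategory.Q.map (eUnit P).inv
  have hy : y₁ ≫ DerivedCategory.Q.map (P ◁ πA I 0) = 0 := by
    have e : (eUnit P).inv ≫ P ◁ πA I m ≫ ψ ▷ U m = ψ ≫ (eUnit K).inv ≫ K ◁ πA I m := by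
      have e' : (eUnit P).inv ≫ ψ ▷ 𝟙_ (DRing.Cx A) = ψ ≫ (eUnit K).inv := by
        rw [Iso.eq_comp_inv, Category.assoc, eUnit_natural, Iso.inv_hom_id_assoc]
      rw [← reassoc_of% e', MonoidalCategory.whisker_exchange]
    rw [← πA_tr I hm, MonoidalCategory.whiskerLeft_comp, Functor.map_comp, ← hb'']
    simp only [y₁, Category.assoc]
    rw [← Functor.map_comp_assoc, ← Functor.map_comp_assoc, Category.assoc, e, Functor.map_comp_assoc,
      IsIso.inv_hom_id_assoc, ← Functor.map_comp_assoc, hkill, Functor.map_zero, zero_comp]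
  have hS : ((idealSC I).map sgl).ShortExact := (idealSC_shortExact I).map_of_exact sgl
  have hT := DerivedCategory.triangleOfSES_distinguished (tensorSC_shortExact P hPflat hS)
  let incl : sgl.obj (ModuleCat.of A ↥I) ⟶ 𝟙_ (DRing.Cx A) := sgl.map (ModuleCat.ofHom I.subtype)
  obtain ⟨y₂, hy₂⟩ : ∃ y₂ : DerivedCategory.Q.obj (sgl.obj N) ⟶
      DerivedCategory.Q.obj (P ⊗ sgl.obj (ModuleCat.of A ↥I)),
      y₁ = y₂ ≫ DerivedCategory.Q.map (P ◁ incl) := Triangle.coyoneda_exact₂ _ hT y₁ hy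
  let εI := @asIso _ _ _ _ ((DTen.ε A).app (sgl.obj (ModuleCat.of A ↥I), P))
    (DTen.KFlatComputes.isIso_counit _ P (.inr hP))
  refine ⟨m + 1, Nat.succ_pos m, y₂ ≫ DerivedCategory.Q.map (DTen.braidCx P (sgl.obj (ModuleCat.of A ↥I))).hom ≫
    εI.inv ≫
      (DTen.LTen₂ A).map (Prod.mkHom (𝟙 _) (DerivedCategory.Q.map ψ)), ?_⟩
  have e3 : (DTen.LTen₂ A).map (Prod.mkHom (𝟙 (DerivedCategory.Q.obj (sgl.obj (ModuleCat.of A ↥I))))
        (DerivedCategory.Q.map ψ)) ≫
      (DTen.LTen₂ A).map (Prod.mkHom (DerivedCategory.Q.map incl) (𝟙 _)) ≫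
      (DTen.unitL A).app (DerivedCategory.Q.obj K) =
      (DTen.ε A).app (sgl.obj (ModuleCat.of A ↥I), P) ≫
        DerivedCategory.Q.map (incl ▷ P ≫ (λ_ P).hom) ≫ DerivedCategory.Q.map ψ := by
    rw [← Functor.map_comp_assoc]
    have : Prod.mkHom (𝟙 (DerivedCategory.Q.obj (sgl.obj (ModuleCat.of A ↥I)))) (DerivedCategory.Q.map ψ) ≫
        Prod.mkHom (DerivedCategory.Q.map incl) (𝟙 _) =
        Prod.mkHom (DerivedCategory.Q.map incl) (𝟙 _) ≫ Prod.mkHom (𝟙 _) (DerivedCategory.Q.map ψ) := by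
      simp [Prod.mkHom]
    rw [this, Functor.map_comp_assoc]
    have e4 : (DTen.LTen₂ A).map (Prod.mkHom (𝟙 (DTen.unit A)) (DerivedCategory.Q.map ψ)) ≫
        (DTen.unitL A).app (DerivedCategory.Q.obj K) =
        (DTen.unitL A).app (DerivedCategory.Q.obj P) ≫ DerivedCategory.Q.map ψ :=
      (DTen.unitL A).naturality (DerivedCategory.Q.map ψ)
    refine (congrArg (_ ≫ ·) e4).trans ?_
    rw [DTen.unitL_app, Category.assoc]
    have e5 : (DTen.LTen₂ A).map (Prod.mkHom (DerivedCategory.Q.map incl) (𝟙 (DerivedCategory.Q.obj P))) ≫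
        (DTen.ε A).app (𝟙_ (DRing.Cx A), P) =
        (DTen.ε A).app (sgl.obj (ModuleCat.of A ↥I), P) ≫ DerivedCategory.Q.map (incl ▷ P) := by
      have e := (DTen.ε A).naturality (Prod.mkHom incl (𝟙 P))
      dsimp at e ⊢
      simpa using e
    rw [reassoc_of% e5, Functor.map_comp_assoc]
  simp only [Category.assoc]
  refine (congrArg (fun z => y₂ ≫ DerivedCategory.Q.map (DTen.braidCx P (sgl.obj (ModuleCat.of A ↥I))).hom ≫
    εI.inv ≫ z) e3).trans ?_
  rw [show (DTen.ε A).app (sgl.obj (ModuleCat.of A ↥I), P) = εI.hom from rfl, Iso.inv_hom_id_assoc,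
    ← Functor.map_comp_assoc]
  have e6 : (DTen.braidCx P (sgl.obj (ModuleCat.of A ↥I))).hom ≫ incl ▷ P ≫ (λ_ P).hom =
      (P ◁ incl) ≫ (eUnit P).hom := by
    rw [← MonoidalCategory.tensorHom_id, ← reassoc_of% (DTen.braidCx_naturality (𝟙 P) incl),
      MonoidalCategory.id_tensorHom]
    rfl
  rw [e6, Functor.map_comp_assoc, ← Category.assoc]
  refine (congrArg (· ≫ DerivedCategory.Q.map (eUnit P).hom ≫ DerivedCategory.Q.map ψ) hy₂.symm).trans ?_
  simp only [y₁, Category.assoc]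
  rw [← Functor.map_comp_assoc _ (eUnit P).inv, Iso.inv_hom_id, CategoryTheory.Functor.map_id,
    Category.id_comp, IsIso.inv_hom_id, Category.comp_id]

end Groth.Agent.Der55.Pro
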