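import Groth.Agent.Der55.Pro.KosSystem

/-!
# The augmentation of the Koszul system
-/

set_option autoImplicit false
set_option linter.unusedVariables false
universe u

open CategoryTheory CategoryTheory.Limits Opposite CochainComplex

namespace Groth.Agent.Der55.Pro

variable {A : Type u} [CommRing A]

/-- The ideal of the `(n+1)`-st powers. -/
abbrev kJ (fs : List A) (n : ℕ) : Ideal A := Ideal.ofList (fs.map (· ^ (n + 1)))

/-- Degree zero of the Koszul complex is the ring. -/
noncomputable def kε : ∀ (fs : List A) (n : ℕ), (kX fs n).X 0 →ₗ[A] A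
  | [], _ => (HomologicalComplex.singleObjXSelf (ComplexShape.up ℤ) 0 (ModuleCat.of A A)).hom.hom
  | f :: fs, n => kε fs n ∘ₗ ((mappingCone.snd (kφ f fs n)).v 0 0 (add_zero 0)).hom

theorem kε_surjective (n : ℕ) : ∀ fs : List A, Function.Surjective (kε fs n) := by
  intro fs
  induction fs with
  | nil => exact (HomologicalComplex.singleObjXSelf (ComplexShape.up ℤ) 0
      (ModuleCat.of A A)).toLinearEquiv.surjective
  | cons f fs ih =>
    intro a
    obtain ⟨y, rfl⟩ := ih a
    refine ⟨(mappingCone.inr (kφ f fs n)).f 0 y, ?_⟩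
    show kε fs n _ = _
    congr 1
    exact ConcreteCategory.congr_hom (mappingCone.inr_f_snd_v (kφ f fs n) 0) y

theorem kε_tr {n m : ℕ} (h : n ≤ m) : ∀ (fs : List A) (x : (kX fs m).X 0),
    kε fs n ((kTr h fs).f 0 x) = kε fs m x := by
  intro fs
  induction fs with
  | nil => intro x; rfl
  | cons f fs ih =>
    intro x
    show kε fs n _ = kε fs m _
    rw [← ih]
    congr 1
    exact ConcreteCategory.congr_hom (map_snd (kφ f fs m) (kφ f fs n) (f ^ (m - n) • kTr h fs)
      (kTr h fs) _ 0) x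

/-- Degree zero boundaries are the elements of the ideal. -/
theorem comap_kε (n : ℕ) : ∀ fs : List A,
    Submodule.comap (kε fs n) (kJ fs n) = LinearMap.range ((kX fs n).d (-1) 0).hom := by
  intro fs
  induction fs with
  | nil =>
    have h0 : (kX ([] : List A) n).d (-1) 0 = 0 :=
      (Koszul15.isZero_X (ModuleCat.of A A) [] (-1) (by simp)).eq_of_src _ _
    rw [h0]
    ext x
    simp only [kJ, List.map_nil, Ideal.ofList_nil, ModuleCat.hom_zero, LinearMap.range_zero]
    exact (HomologicalComplex.singleObjXSelf (ComplexShape.up ℤ) 0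
      (ModuleCat.of A A)).toLinearEquiv.map_eq_zero_iff
  | cons f fs ih =>
    have hd : ∀ w : (kX (f :: fs) n).X (-1),
        (mappingCone.snd (kφ f fs n)).v 0 0 (add_zero 0) ((kX (f :: fs) n).d (-1) 0 w) =
        f ^ (n + 1) • (mappingCone.fst (kφ f fs n)).1.v (-1) 0 (by norm_num) w +
          (kX fs n).d (-1) 0 ((mappingCone.snd (kφ f fs n)).v (-1) (-1) (add_zero _) w) := fun w =>
      ConcreteCategory.congr_hom (mappingCone.d_snd_v (kφ f fs n) (-1) 0 (by norm_num)) w
    have hJ : kJ (f :: fs) n = Ideal.span {f ^ (n + 1)} ⊔ kJ fs n := by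
      simp only [kJ, List.map_cons, Ideal.ofList_cons]
    refine le_antisymm (fun z hz => ?_) ?_
    · rw [Submodule.mem_comap, hJ] at hz
      obtain ⟨a, ha, b, hb, hab⟩ := Submodule.mem_sup.1 hz
      obtain ⟨c, rfl⟩ := Ideal.mem_span_singleton'.1 ha
      obtain ⟨y, hy⟩ := kε_surjective n fs c
      let s : (kX fs n).X 0 := (mappingCone.snd (kφ f fs n)).v 0 0 (add_zero 0) z
      have : s - f ^ (n + 1) • y ∈ Submodule.comap (kε fs n) (kJ fs n) := by
        rw [Submodule.mem_comap, map_sub, map_smul, hy, show kε fs n s = c * f ^ (n + 1) + b from hab.symm,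
          smul_eq_mul, mul_comm c]
        simpa using hb
      rw [ih] at this
      obtain ⟨v, hv⟩ := this
      refine ⟨(mappingCone.inl (kφ f fs n)).v 0 (-1) (by norm_num) y +
        (mappingCone.inr (kφ f fs n)).f (-1) v, Koszul15.cone_ext (f ^ (n + 1)) (fs.map (· ^ (n + 1))) ?_ ?_⟩
      · have h1 : IsZero ((kX fs n).X 1) := Koszul15.isZero_X _ _ 1 (by omega)
        exact (ModuleCat.subsingleton_of_isZero h1).elim _ _
      · refine (hd _).trans ?_
        rw [map_add, map_add]
        erw [ConcreteCategory.congr_hom (mappingCone.inl_v_fst_v (kφ f fs n) 0 (-1) (by norm_num)) y,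
          ConcreteCategory.congr_hom (mappingCone.inr_f_fst_v (kφ f fs n) (-1) 0 (by norm_num)) v,
          ConcreteCategory.congr_hom (mappingCone.inl_v_snd_v (kφ f fs n) 0 (-1) (by norm_num)) y,
          ConcreteCategory.congr_hom (mappingCone.inr_f_snd_v (kφ f fs n) (-1)) v]
        simp [hv]
        rfl
    · rintro _ ⟨w, rfl⟩
      rw [Submodule.mem_comap, hJ]
      have e := congrArg (kε fs n) (hd w)
      rw [map_add, map_smul] at e
      refine Set.mem_of_eq_of_mem e ?_
      refine add_mem (Submodule.mem_sup_left ?_) (Submodule.mem_sup_right ?_)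
      · exact Ideal.mem_span_singleton'.2 ⟨_, mul_comm _ _⟩
      · exact ih.ge ⟨_, rfl⟩

/-- The system `A/(f^{n+1})`. -/
abbrev kQ (fs : List A) (n : ℕ) : ModuleCat.{u} A := ModuleCat.of A (A ⧸ kJ fs n)

theorem kJ_anti (fs : List A) {n m : ℕ} (h : n ≤ m) : kJ fs m ≤ kJ fs n := by
  refine Ideal.span_le.2 fun x hx => ?_
  obtain ⟨f, hf, rfl⟩ := List.mem_map.1 hx
  rw [show m + 1 = (n + 1) + (m - n) by omega, pow_add]
  exact Ideal.mul_mem_right _ _ (Ideal.subset_span (List.mem_map.2 ⟨f, hf, rfl⟩))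

/-- The system `A/(f^{n+1})` of modules. -/
noncomputable def kQs (fs : List A) : ARSys.PS (ModuleCat.{u} A) where
  obj n := kQ fs n.unop
  map {m n} φ := ModuleCat.ofHom (Submodule.factor (kJ_anti fs (leOfHom φ.unop)))
  map_id n := ModuleCat.hom_ext (Submodule.linearMap_qext _ (Submodule.factor_comp_mk (le_refl _)))
  map_comp φ ψ := ModuleCat.hom_ext (Submodule.factor_comp (kJ_anti fs (leOfHom φ.unop))
    (kJ_anti fs (leOfHom ψ.unop))).symm

/-- The augmentation `K(f^{n+1}) ⟶ A/(f^{n+1})`. -/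
noncomputable def kν (fs : List A) (n : ℕ) :
    kX fs n ⟶ (HomologicalComplex.single (ModuleCat.{u} A) (ComplexShape.up ℤ) 0).obj (kQ fs n) :=
  HomologicalComplex.mkHomToSingle (ModuleCat.ofHom ((kJ fs n).mkQ ∘ₗ kε fs n)) fun i hi => by
    change i + 1 = 0 at hi
    obtain rfl : i = -1 := by omega
    refine ModuleCat.hom_ext (LinearMap.ext fun w => ?_)
    exact (Submodule.Quotient.mk_eq_zero _).2 ((comap_kε n fs).ge ⟨w, rfl⟩)

theorem kν_f_zero (fs : List A) (n : ℕ) (x : (kX fs n).X 0) :
    (HomologicalComplex.singleObjXSelf (ComplexShape.up ℤ) 0 (kQ fs n)).hom ((kν fs n).f 0 x) =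
      Submodule.Quotient.mk (kε fs n x) := by
  rw [kν, HomologicalComplex.mkHomToSingle_f]
  exact ConcreteCategory.congr_hom (Iso.inv_hom_id
    (HomologicalComplex.singleObjXSelf (ComplexShape.up ℤ) 0 (kQ fs n))) _

theorem kν_f_zero_surjective (fs : List A) (n : ℕ) : Function.Surjective ((kν fs n).f 0).hom := by
  intro y
  let e := (HomologicalComplex.singleObjXSelf (ComplexShape.up ℤ) 0 (kQ fs n)).toLinearEquiv
  obtain ⟨a, ha⟩ := Submodule.Quotient.mk_surjective _ (e y)
  obtain ⟨x, rfl⟩ := kε_surjective n fs a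
  exact ⟨x, e.injective ((kν_f_zero fs n x).trans ha)⟩

theorem kν_exact (fs : List A) (n : ℕ) :
    Function.Exact ((kX fs n).d (-1) 0).hom ((kν fs n).f 0).hom := by
  intro x
  let e := (HomologicalComplex.singleObjXSelf (ComplexShape.up ℤ) 0 (kQ fs n)).toLinearEquiv
  rw [← e.map_eq_zero_iff, show e (((kν fs n).f 0).hom x) = _ from kν_f_zero fs n x,
    Submodule.Quotient.mk_eq_zero, ← Submodule.mem_comap, comap_kε]
  rfl

theorem kTr_kν (fs : List A) {n m : ℕ} (h : n ≤ m) :
    kTr h fs ≫ kν fs n = kν fs m ≫ (HomologicalComplex.single (ModuleCat.{u} A) (ComplexShape.up ℤ) 0).map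
      (ModuleCat.ofHom (Submodule.factor (kJ_anti fs h)) : kQ fs m ⟶ kQ fs n) := by
  apply HomologicalComplex.to_single_hom_ext
  rw [← cancel_mono (HomologicalComplex.singleObjXSelf (ComplexShape.up ℤ) 0 (kQ fs n)).hom]
  refine ModuleCat.hom_ext (LinearMap.ext fun x => ?_)
  refine (kν_f_zero fs n ((kTr h fs).f 0 x)).trans ?_
  rw [kε_tr]
  simp only [HomologicalComplex.comp_f, Category.assoc,
    HomologicalComplex.single_map_f_self, Iso.inv_hom_id, Category.comp_id]
  exact congrArg (Submodule.factor (kJ_anti fs h)) (kν_f_zero fs m x).symm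

/-- The augmentation of the system. -/
noncomputable def kνs (fs : List A) :
    kW fs ⟶ kQs fs ⋙ HomologicalComplex.single (ModuleCat.{u} A) (ComplexShape.up ℤ) 0 where
  app n := kν fs n.unop
  naturality {m n} φ := kTr_kν fs (leOfHom φ.unop)

end Groth.Agent.Der55.Pro
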