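import Groth.Agent.Der55.Pro.KosTensor
import Groth.Prelude.Def_DerCA

/-!
# `K ⊗ K(f^n) → K ⊗ A/(f^n)` is a pro-isomorphism on cohomology
-/

set_option autoImplicit false
set_option linter.unusedVariables false
set_option linter.style.haveILetI false
universe u

open CategoryTheory CategoryTheory.Limits Opposite TensorProduct MonoidalCategory

namespace Groth.Agent.Der55.Pro

open Groth.Agent.Der55.Kun

variable {A : Type u} [CommRing A]

theorem tr_apply {X Y : ARSys.PS (ModuleCat.{u} A)} (f : X ⟶ Y) {n m : ℕ} (h : n ≤ m)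
    (x : X.obj (op m)) : f.app (op n) (ARSys.tr X h x) = ARSys.tr Y h (f.app (op m) x) :=
  congrArg (fun g => g.hom x) (f.naturality (homOfLE h).op)

theorem tr_tr_apply (X : ARSys.PS (ModuleCat.{u} A)) {n l m : ℕ} (h : n ≤ l) (h' : l ≤ m)
    (x : X.obj (op m)) : ARSys.tr X h (ARSys.tr X h' x) = ARSys.tr X (h.trans h') x :=
  congrArg (fun g => g.hom x) (X.map_comp (homOfLE h').op (homOfLE h).op).symm

/-- Pro-injective and pro-surjective gives a pro-isomorphism. -/
theorem isProIso_of_inj_surj {X Y : ARSys.PS (ModuleCat.{u} A)} (f : X ⟶ Y)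
    (hi : ∀ n : ℕ, ∃ (m : ℕ) (h : n ≤ m), ∀ x : X.obj (op m), f.app (op m) x = 0 → ARSys.tr X h x = 0)
    (hs : ∀ n : ℕ, ∃ (m : ℕ) (h : n ≤ m), ∀ y : Y.obj (op m), ∃ x : X.obj (op n),
      f.app (op n) x = ARSys.tr Y h y) :
    DerCA.IsProIso f := by
  intro n
  obtain ⟨l, hl, hinj⟩ := hi n
  obtain ⟨m, hm, hsurj⟩ := hs l
  choose s hs' using hsurj
  have key : ∀ (y : Y.obj (op m)) (x : X.obj (op l)), f.app (op l) x = ARSys.tr Y hm y →
      ARSys.tr X hl (s y) = ARSys.tr X hl x := fun y x hx => by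
    rw [← sub_eq_zero, ← map_sub]
    exact hinj _ (by rw [map_sub, hs', hx, sub_self])
  let b : Y.obj (op m) →ₗ[A] X.obj (op n) :=
    { toFun := fun y => ARSys.tr X hl (s y)
      map_add' := fun y y' => by
        rw [key (y + y') (s y + s y') (by rw [map_add, map_add, hs', hs']), map_add]
      map_smul' := fun r y => by
        rw [RingHom.id_apply, key (r • y) (r • s y) (by rw [map_smul, map_smul, hs']), map_smul] }
  refine ⟨m, hl.trans hm, ModuleCat.ofHom b, ModuleCat.hom_ext (LinearMap.ext fun x => ?_),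
    ModuleCat.hom_ext (LinearMap.ext fun y => ?_)⟩
  · show ARSys.tr X hl (s (f.app (op m) x)) = _
    rw [key _ (ARSys.tr X hm x) (tr_apply f hm x), tr_tr_apply]
  · show f.app (op n) (ARSys.tr X hl (s y)) = _
    rw [tr_apply, hs', tr_tr_apply]

variable {K : DRing.Cx A}

theorem lmap_id' (K L : DRing.Cx A) : lmap K (𝟙 L) = 𝟙 (HTor.tensorCx K L) := by
  refine HomologicalComplex.hom_ext _ _ fun n =>
    ModuleCat.hom_ext (hom_ext_tm K L fun i j h x y => ?_)
  rw [lmap_tm]
  rfl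

theorem lmap_surjective {L L' : DRing.Cx A} (φ : L ⟶ L')
    (hφ : ∀ j, Function.Surjective (φ.f j).hom) (n : ℤ) :
    Function.Surjective ((lmap K φ).f n).hom := fun w => by
  obtain ⟨v, hv⟩ : toSum K L' n w ∈ LinearMap.range (xSumMap K φ n) :=
    mem_range_lmap _ _ fun ij => LinearMap.lTensor_surjective _ (hφ ij.1.2) _
  refine ⟨fromSum K L n v, ?_⟩
  rw [← fromSum_toSum K L' n w, ← fromSum_toSum K L' n ((lmap K φ).f n _), toSum_lmap, toSum_fromSum,
    hv]

theorem kν_surjective (fs : List A) (n : ℕ) (j : ℤ) : Function.Surjective ((kν fs n).f j).hom := by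
  by_cases hj : j = 0
  · subst hj
    exact kν_f_zero_surjective fs n
  · haveI := ModuleCat.subsingleton_of_isZero
      (HomologicalComplex.isZero_single_obj_X (ComplexShape.up ℤ) 0 (kQ fs n) j hj)
    exact fun y => ⟨0, Subsingleton.elim _ _⟩

/-- Pro-acyclicity of the kernel. -/
theorem exists_proAcyclic [IsNoetherianRing A] (hfin : ∀ i, Module.Finite A (K.X i)) {a b : ℤ}
    (hab : DRing.VanishesOutside K a b) (fs : List A) (i j : ℤ) (hij : i + 1 = j) (n : ℕ) :
    ∃ (m : ℕ) (h : n ≤ m), ∀ x : (HTor.tensorCx K (kX fs m)).X j,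
      (HTor.tensorCx K (kX fs m)).d j (j + 1) x = 0 → (lmap K (kν fs m)).f j x = 0 →
        ∃ y : (HTor.tensorCx K (kX fs n)).X i, (lmap K (kν fs n)).f i y = 0 ∧
          (HTor.tensorCx K (kX fs n)).d i j y = (lmap K (kTr h fs)).f j x := by
  obtain rfl : i = j - 1 := by omega
  obtain ⟨m, h, hm⟩ := exists_proAcyclic_from hfin (b := b) (fun i hi => hab i (.inr hi)) fs j
    (b - a + 1).toNat a (by omega) n
  refine ⟨m, h, fun x hx hν => hm x hx hν fun ij hij => ?_⟩
  haveI := ModuleCat.subsingleton_of_isZero (hab ij.1.1 (.inl hij))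
  exact Subsingleton.elim _ _

/-- The system `K ⊗ K(f^{n+1})`. -/
noncomputable def kTS (K : DRing.Cx A) (fs : List A) : ARSys.PS (DRing.Cx A) where
  obj n := HTor.tensorCx K (kX fs n.unop)
  map φ := lmap K (kTr (leOfHom φ.unop) fs)
  map_id n := (congrArg (lmap K) (kTr_refl n.unop fs)).trans (lmap_id' K _)
  map_comp φ ψ := ((congrArg (lmap K)
    (kTr_trans (leOfHom ψ.unop) (leOfHom φ.unop) fs).symm).trans (lmap_comp K _ _))

/-- The system `K ⊗ A/(f^{n+1})`. -/
noncomputable def kTQ (K : DRing.Cx A) (fs : List A) : ARSys.PS (DRing.Cx A) where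
  obj n := HTor.tensorCx K ((HomologicalComplex.single (ModuleCat.{u} A) (ComplexShape.up ℤ) 0).obj
    ((kQs fs).obj n))
  map φ := lmap K ((HomologicalComplex.single (ModuleCat.{u} A) (ComplexShape.up ℤ) 0).map ((kQs fs).map φ))
  map_id n := by rw [(kQs fs).map_id, CategoryTheory.Functor.map_id, lmap_id']
  map_comp φ ψ := by rw [(kQs fs).map_comp, CategoryTheory.Functor.map_comp, lmap_comp]

/-- `K ⊗ kν` as a map of systems. -/
noncomputable def kTen (K : DRing.Cx A) (fs : List A) : kTS K fs ⟶ kTQ K fs where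
  app n := lmap K (kν fs n.unop)
  naturality {m n} φ := (lmap_comp K _ _).symm.trans
    ((congrArg (lmap K) (kTr_kν fs (leOfHom φ.unop))).trans (lmap_comp K _ _))

theorem inj_gen {Lm Tm Ln : DRing.Cx A} (ν : Lm ⟶ Tm) (τ : Lm ⟶ Ln) {i i₀ : ℤ} (h0 : i₀ + 1 = i)
    (hν : Function.Surjective (ν.f i₀).hom)
    (hm : ∀ x : Lm.X i, Lm.d i (i + 1) x = 0 → ν.f i x = 0 → ∃ y : Ln.X i₀, Ln.d i₀ i y = τ.f i x)
    (c : Lm.homology i) (hc : HomologicalComplex.homologyMap ν i c = 0) :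
    HomologicalComplex.homologyMap τ i c = 0 := by
  obtain ⟨z, rfl⟩ := homologyπ_surjective Lm i c
  have hc' : Tm.homologyπ i (HomologicalComplex.cyclesMap ν i z) = 0 :=
    (congrArg (fun g => g.hom z) (HomologicalComplex.homologyπ_naturality ν i)).symm.trans hc
  obtain ⟨w, hw⟩ := (homologyπ_eq_zero_iff Tm i₀ h0 _).1 hc'
  obtain ⟨w', rfl⟩ := hν w
  have hd : Lm.d i (i + 1) (Lm.iCycles i z - Lm.d i₀ i w') = 0 := by
    rw [map_sub, d_iCycles, ← LinearMap.comp_apply, ← ModuleCat.hom_comp,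
      HomologicalComplex.d_comp_d]
    simp
  have hνx : ν.f i (Lm.iCycles i z - Lm.d i₀ i w') = 0 := by
    rw [map_sub, sub_eq_zero]
    exact (congrArg (fun g => g.hom z) (HomologicalComplex.cyclesMap_i ν i)).symm.trans
      (hw.symm.trans (congrArg (fun g => g.hom w') (ν.comm i₀ i)))
  obtain ⟨y, hy⟩ := hm _ hd hνx
  refine (congrArg (fun g => g.hom z) (HomologicalComplex.homologyπ_naturality τ i)).trans ?_
  refine (homologyπ_eq_zero_iff Ln i₀ h0 _).2 ⟨y + τ.f i₀ w', ?_⟩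
  have e : Ln.d i₀ i (τ.f i₀ w') = τ.f i (Lm.d i₀ i w') := congrArg (fun g => g.hom w') (τ.comm i₀ i)
  rw [map_add, hy, e, map_sub, sub_add_cancel]
  exact (congrArg (fun g => g.hom z) (HomologicalComplex.cyclesMap_i τ i)).symm

theorem surj_gen {Lm Tm Ln Tn : DRing.Cx A} (ν : Lm ⟶ Tm) (τ : Lm ⟶ Ln) (ν' : Ln ⟶ Tn) (σ : Tm ⟶ Tn)
    (hcomm : τ ≫ ν' = ν ≫ σ) {i : ℤ} (hν : Function.Surjective (ν.f i).hom)
    (hm : ∀ x : Lm.X (i + 1), Lm.d (i + 1) (i + 1 + 1) x = 0 → ν.f (i + 1) x = 0 →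
      ∃ y : Ln.X i, ν'.f i y = 0 ∧ Ln.d i (i + 1) y = τ.f (i + 1) x)
    (c : Tm.homology i) :
    ∃ x : Ln.homology i, HomologicalComplex.homologyMap ν' i x = HomologicalComplex.homologyMap σ i c := by
  obtain ⟨z, rfl⟩ := homologyπ_surjective Tm i c
  obtain ⟨x, hx⟩ := hν (Tm.iCycles i z)
  have hd : Lm.d (i + 1) (i + 1 + 1) (Lm.d i (i + 1) x) = 0 := by
    rw [← LinearMap.comp_apply, ← ModuleCat.hom_comp, HomologicalComplex.d_comp_d]
    simp
  have hνx : ν.f (i + 1) (Lm.d i (i + 1) x) = 0 := by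
    refine (congrArg (fun g => g.hom x) (ν.comm i (i + 1))).symm.trans ?_
    show Tm.d i (i + 1) (ν.f i x) = 0
    rw [hx, d_iCycles]
  obtain ⟨y, hyν, hy⟩ := hm _ hd hνx
  have hx' : Ln.d i (i + 1) (τ.f i x - y) = 0 := by
    rw [map_sub, hy, sub_eq_zero]
    exact congrArg (fun g => g.hom x) (τ.comm i (i + 1))
  obtain ⟨z', hz'⟩ := exists_cycle Ln _ hx'
  refine ⟨Ln.homologyπ i z', ?_⟩
  refine ((congrArg (fun g => g.hom z') (HomologicalComplex.homologyπ_naturality ν' i)).trans ?_).trans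
    (congrArg (fun g => g.hom z) (HomologicalComplex.homologyπ_naturality σ i)).symm
  show Tn.homologyπ i _ = Tn.homologyπ i _
  congr 1
  refine iCycles_injective _ i ?_
  refine (congrArg (fun g => g.hom z') (HomologicalComplex.cyclesMap_i ν' i)).trans
    (Eq.trans ?_ (congrArg (fun g => g.hom z) (HomologicalComplex.cyclesMap_i σ i)).symm)
  show ν'.f i (Ln.iCycles i z') = σ.f i (Tm.iCycles i z)
  rw [hz', map_sub, hyν, sub_zero, ← hx]
  exact congrArg (fun g => (g.f i).hom x) hcomm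

theorem isProIso_homology_kTen [IsNoetherianRing A] (hfin : ∀ i, Module.Finite A (K.X i)) {a b : ℤ}
    (hab : DRing.VanishesOutside K a b) (fs : List A) (i : ℤ) :
    DerCA.IsProIso (Functor.whiskerRight (kTen K fs)
      (HomologicalComplex.homologyFunctor (ModuleCat.{u} A) (ComplexShape.up ℤ) i)) :=
  isProIso_of_inj_surj _
    (fun n => by
      obtain ⟨m, h, hm⟩ := exists_proAcyclic hfin hab fs (i - 1) i (by omega) n
      refine ⟨m, h, fun c hc => ?_⟩
      exact inj_gen (lmap K (kν fs m)) (lmap K (kTr h fs)) (by omega)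
        (lmap_surjective _ (kν_surjective fs m) (i - 1))
        (fun x hx hν => (hm x hx hν).imp fun _ h => h.2) c hc)
    fun n => by
      obtain ⟨m, h, hm⟩ := exists_proAcyclic hfin hab fs i (i + 1) rfl n
      refine ⟨m, h, fun c => ?_⟩
      exact surj_gen (lmap K (kν fs m)) (lmap K (kTr h fs)) (lmap K (kν fs n))
        ((kTQ K fs).map (homOfLE h).op) ((kTen K fs).naturality (homOfLE h).op)
        (lmap_surjective _ (kν_surjective fs m) i) hm c

end Groth.Agent.Der55.Pro
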