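import Groth.Agent.Der55.Pro.KosAug
import Groth.Agent.KRegLib.Perfect

/-!
# Higher Koszul cohomology of powers is pro-zero
-/

set_option autoImplicit false
set_option linter.style.haveILetI false
universe u

open CategoryTheory CategoryTheory.Limits Opposite CochainComplex TensorProduct

namespace Groth.Agent.Der55.Pro

variable {A : Type u} [CommRing A] (M : Type u) [AddCommGroup M] [Module A M]

/-- `M ⊗ -` on a map of modules. -/
noncomputable abbrev lt {X Y : ModuleCat.{u} A} (a : X ⟶ Y) : M ⊗[A] X →ₗ[A] M ⊗[A] Y :=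
  a.hom.lTensor M

theorem lt_comp {X Y Z : ModuleCat.{u} A} (a : X ⟶ Y) (b : Y ⟶ Z) (x : M ⊗[A] X) :
    lt M (a ≫ b) x = lt M b (lt M a x) :=
  LinearMap.lTensor_comp_apply _ _ _ x

theorem lt_add {X Y : ModuleCat.{u} A} (a b : X ⟶ Y) (x : M ⊗[A] X) :
    lt M (a + b) x = lt M a x + lt M b x := by
  simp [lt, LinearMap.lTensor_add]

theorem lt_neg {X Y : ModuleCat.{u} A} (a : X ⟶ Y) (x : M ⊗[A] X) : lt M (-a) x = -lt M a x := by
  simp [lt, LinearMap.lTensor_neg]

theorem lt_smul {X Y : ModuleCat.{u} A} (r : A) (a : X ⟶ Y) (x : M ⊗[A] X) :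
    lt M (r • a) x = r • lt M a x := by
  simp [lt, LinearMap.lTensor_smul]

theorem lt_zero {X Y : ModuleCat.{u} A} (x : M ⊗[A] X) : lt M (0 : X ⟶ Y) x = 0 := by
  simp [lt]

theorem lt_id {X : ModuleCat.{u} A} (x : M ⊗[A] X) : lt M (𝟙 X) x = x := by
  simp [lt]

variable {M}

theorem lt_kTr_comm {fs : List A} {n m : ℕ} (h : n ≤ m) (i j : ℤ) (x : M ⊗[A] (kX fs m).X i) :
    lt M ((kX fs n).d i j) (lt M ((kTr h fs).f i) x) =
      lt M ((kTr h fs).f j) (lt M ((kX fs m).d i j) x) := by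
  rw [← lt_comp, ← lt_comp, (kTr h fs).comm]

theorem lt_kTr_trans {fs : List A} {n l m : ℕ} (h : n ≤ l) (h' : l ≤ m) (i : ℤ)
    (x : M ⊗[A] (kX fs m).X i) :
    lt M ((kTr h fs).f i) (lt M ((kTr h' fs).f i) x) = lt M ((kTr (h.trans h') fs).f i) x := by
  rw [← lt_comp, ← HomologicalComplex.comp_f, kTr_trans]

variable (f : A) (fs : List A) (n : ℕ)

/-- The shifted component of an element of the cone. -/
noncomputable abbrev cF (i j : ℤ) (hij : i + 1 = j) :
    M ⊗[A] (kX (f :: fs) n).X i →ₗ[A] M ⊗[A] (kX fs n).X j :=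
  lt M ((mappingCone.fst (kφ f fs n)).1.v i j hij)

/-- The unshifted component of an element of the cone. -/
noncomputable abbrev cS (i : ℤ) : M ⊗[A] (kX (f :: fs) n).X i →ₗ[A] M ⊗[A] (kX fs n).X i :=
  lt M ((mappingCone.snd (kφ f fs n)).v i i (add_zero i))

/-- Elements of the cone from the shifted part. -/
noncomputable abbrev cL (i j : ℤ) (hij : i + 1 = j) :
    M ⊗[A] (kX fs n).X j →ₗ[A] M ⊗[A] (kX (f :: fs) n).X i :=
  lt M ((mappingCone.inl (kφ f fs n)).v j i (by omega))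

/-- Elements of the cone from the unshifted part. -/
noncomputable abbrev cR (i : ℤ) : M ⊗[A] (kX fs n).X i →ₗ[A] M ⊗[A] (kX (f :: fs) n).X i :=
  lt M ((mappingCone.inr (kφ f fs n)).f i)

theorem cone_eq (i j : ℤ) (hij : i + 1 = j) (z : M ⊗[A] (kX (f :: fs) n).X i) :
    cL f fs n i j hij (cF f fs n i j hij z) + cR f fs n i (cS f fs n i z) = z := by
  rw [← lt_comp, ← lt_comp, ← lt_add]
  refine (congrArg (fun g => lt M g z) (mappingCone.id_X (kφ f fs n) i j hij)).trans ?_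
  exact lt_id M z

theorem cF_d (i j k : ℤ) (hij : i + 1 = j) (hjk : j + 1 = k) (z : M ⊗[A] (kX (f :: fs) n).X i) :
    cF f fs n j k hjk (lt M ((kX (f :: fs) n).d i j) z) =
      -lt M ((kX fs n).d j k) (cF f fs n i j hij z) := by
  rw [← lt_comp, ← lt_comp, ← lt_neg]
  exact congrArg (fun g => lt M g z)
    (mappingCone.d_fst_v (kφ f fs n) i j k hij hjk)

theorem cS_d (i j : ℤ) (hij : i + 1 = j) (z : M ⊗[A] (kX (f :: fs) n).X i) :
    cS f fs n j (lt M ((kX (f :: fs) n).d i j) z) =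
      f ^ (n + 1) • cF f fs n i j hij z + lt M ((kX fs n).d i j) (cS f fs n i z) := by
  rw [← lt_comp, ← lt_comp, ← lt_smul, ← lt_add]
  refine (congrArg (fun g => lt M g z) (mappingCone.d_snd_v (kφ f fs n) i j hij)).trans ?_
  simp [kφ]
  rfl

theorem d_cR (i j : ℤ) (c : M ⊗[A] (kX fs n).X i) :
    lt M ((kX (f :: fs) n).d i j) (cR f fs n i c) = cR f fs n j (lt M ((kX fs n).d i j) c) := by
  rw [← lt_comp, ← lt_comp]
  exact congrArg (fun g => lt M g c) ((mappingCone.inr (kφ f fs n)).comm i j)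

theorem cF_cL (i j : ℤ) (hij : i + 1 = j) (a : M ⊗[A] (kX fs n).X j) :
    cF f fs n i j hij (cL f fs n i j hij a) = a := by
  rw [← lt_comp]
  exact (congrArg (fun g => lt M g a) (mappingCone.inl_v_fst_v (kφ f fs n) j i hij)).trans (lt_id M a)

theorem cS_cL (i j : ℤ) (hij : i + 1 = j) (a : M ⊗[A] (kX fs n).X j) :
    cS f fs n i (cL f fs n i j hij a) = 0 := by
  rw [← lt_comp]
  exact (congrArg (fun g => lt M g a) (mappingCone.inl_v_snd_v (kφ f fs n) j i (by omega))).trans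
    (lt_zero M a)

theorem cF_tr {m : ℕ} (h : n ≤ m) (i j : ℤ) (hij : i + 1 = j) (z : M ⊗[A] (kX (f :: fs) m).X i) :
    cF f fs n i j hij (lt M ((kTr h (f :: fs)).f i) z) =
      f ^ (m - n) • lt M ((kTr h fs).f j) (cF f fs m i j hij z) := by
  rw [← lt_comp, ← lt_comp, ← lt_smul]
  refine (congrArg (fun g => lt M g z)
    (map_fst (kφ f fs m) (kφ f fs n) (f ^ (m - n) • kTr h fs) (kTr h fs) _ i j hij)).trans ?_
  simp
  rfl

theorem cS_tr {m : ℕ} (h : n ≤ m) (i : ℤ) (z : M ⊗[A] (kX (f :: fs) m).X i) :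
    cS f fs n i (lt M ((kTr h (f :: fs)).f i) z) = lt M ((kTr h fs).f i) (cS f fs m i z) := by
  rw [← lt_comp, ← lt_comp]
  exact congrArg (fun g => lt M g z)
    (map_snd (kφ f fs m) (kφ f fs n) (f ^ (m - n) • kTr h fs) (kTr h fs) _ i)

variable (M)

/-- The property proved by induction. -/
def IsProAcyclic (fs : List A) (i : ℤ) : Prop :=
  ∀ n : ℕ, ∃ (m : ℕ) (h : n ≤ m), ∀ x : M ⊗[A] (kX fs m).X i,
    lt M ((kX fs m).d i (i + 1)) x = 0 →
      ∃ y : M ⊗[A] (kX fs n).X (i - 1), lt M ((kX fs n).d (i - 1) i) y = lt M ((kTr h fs).f i) x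

variable {M}

/-- If the shifted component becomes a boundary, the cycle becomes a boundary further on. -/
theorem exists_of_fst {l m : ℕ} (hn : n ≤ l) (hl : l ≤ m) (i j : ℤ) (hij : i + 1 = j)
    (hT : ∀ c : M ⊗[A] (kX fs l).X i, lt M ((kX fs l).d i j) c = 0 →
      ∃ e : M ⊗[A] (kX fs n).X (i - 1), lt M ((kX fs n).d (i - 1) i) e = lt M ((kTr hn fs).f i) c)
    (z : M ⊗[A] (kX (f :: fs) m).X i) (hz : lt M ((kX (f :: fs) m).d i j) z = 0)
    (b : M ⊗[A] (kX fs l).X i)
    (hb : lt M ((kX fs l).d i j) b = f ^ (m - l) • lt M ((kTr hl fs).f j) (cF f fs m i j hij z)) :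
    ∃ y : M ⊗[A] (kX (f :: fs) n).X (i - 1),
      lt M ((kX (f :: fs) n).d (i - 1) i) y = lt M ((kTr (hn.trans hl) (f :: fs)).f i) z := by
  let zl := lt M ((kTr hl (f :: fs)).f i) z
  let y₁ := cL f fs l (i - 1) i (by omega) (-b)
  have hzl : lt M ((kX (f :: fs) l).d i j) zl = 0 := by
    rw [lt_kTr_comm, hz, map_zero]
  let w := zl - lt M ((kX (f :: fs) l).d (i - 1) i) y₁
  have hwF : cF f fs l i j hij w = 0 := by
    rw [map_sub, cF_d f fs l (i - 1) i j (by omega) hij, cF_cL, map_neg, neg_neg, cF_tr, hb, sub_self]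
  have hw : lt M ((kX (f :: fs) l).d i j) w = 0 := by
    rw [map_sub, hzl, ← lt_comp, HomologicalComplex.d_comp_d, lt_zero, sub_zero]
  have hwd : lt M ((kX fs l).d i j) (cS f fs l i w) = 0 := by
    have := cS_d f fs l i j hij w
    rw [hw, map_zero, hwF, smul_zero, zero_add] at this
    exact this.symm
  obtain ⟨e, he⟩ := hT _ hwd
  refine ⟨lt M ((kTr hn (f :: fs)).f (i - 1)) y₁ + cR f fs n (i - 1) e, ?_⟩
  rw [map_add, d_cR, he, lt_kTr_comm]
  have h2 : cR f fs n i (lt M ((kTr hn fs).f i) (cS f fs l i w)) =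
      lt M ((kTr hn (f :: fs)).f i) w := by
    conv_rhs => rw [← cone_eq f fs n i j hij (lt M ((kTr hn (f :: fs)).f i) w)]
    rw [cF_tr, hwF, map_zero, smul_zero, map_zero, zero_add, cS_tr]
  rw [h2, ← map_add, add_sub_cancel, lt_kTr_trans]

theorem exists_torsion_bound [IsNoetherianRing A] {N : Type u} [AddCommGroup N] [Module A N]
    [Module.Finite A N] (f : A) : ∃ c : ℕ, ∀ (k : ℕ) (x : N), f ^ k • x = 0 → f ^ c • x = 0 := by
  let K : ℕ →o Submodule A N :=
    ⟨fun k => LinearMap.ker (LinearMap.lsmul A N (f ^ k)), fun a b hab x hx => by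
      obtain ⟨d, rfl⟩ := Nat.exists_eq_add_of_le hab
      simp only [LinearMap.mem_ker, LinearMap.lsmul_apply] at hx ⊢
      rw [pow_add, mul_comm, mul_smul, hx, smul_zero]⟩
  obtain ⟨c, hc⟩ := monotone_stabilizes_iff_noetherian.2 inferInstance K
  refine ⟨c, fun k x hx => ?_⟩
  rcases le_total k c with h | h
  · exact K.monotone h hx
  · exact (hc k h).ge hx

theorem isProAcyclic_of_neg [IsNoetherianRing A] [Module.Finite A M] :
    ∀ (fs : List A) (i : ℤ), i < 0 → IsProAcyclic M fs i := by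
  intro fs
  induction fs with
  | nil =>
    intro i hi n
    refine ⟨n, le_rfl, fun x _ => ⟨0, ?_⟩⟩
    have h0 : (kTr (le_refl n) ([] : List A)).f i = 0 :=
      (Koszul15.isZero_X (ModuleCat.of A A) [] i (by simp; omega)).eq_of_src _ _
    rw [map_zero, h0, lt_zero]
  | cons f fs ih =>
    intro i hi n
    obtain ⟨l, hn, hT⟩ := ih i hi n
    have hTl := hT
    by_cases hi' : i = -1
    · subst hi'
      let Q := (M ⊗[A] (kX fs l).X 0) ⧸ LinearMap.range (lt M ((kX fs l).d (-1) 0))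
      haveI : Module.Finite A ((kX fs l).X 0) := (KRegLib.koszulCx_finiteFree _ 0).1
      obtain ⟨c, hc⟩ := exists_torsion_bound (N := Q) f
      refine ⟨l + c, hn.trans (Nat.le_add_right l c), fun z hz => ?_⟩
      have ha : f ^ (l + c + 1) • lt M ((kTr (Nat.le_add_right l c) fs).f 0)
          (cF f fs (l + c) (-1) 0 (by norm_num) z) ∈
          LinearMap.range (lt M ((kX fs l).d (-1) 0)) := by
        have := cS_d f fs (l + c) (-1) 0 (by norm_num) z
        have hz0 : lt M ((kX (f :: fs) (l + c)).d (-1) 0) z = 0 := hz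
        rw [hz0, map_zero] at this
        refine ⟨-lt M ((kTr (Nat.le_add_right l c) fs).f (-1)) (cS f fs (l + c) (-1) z), ?_⟩
        have e := eq_neg_of_add_eq_zero_left this.symm
        rw [map_neg, lt_kTr_comm, ← map_smul, e, map_neg]
      have hb : f ^ c • lt M ((kTr (Nat.le_add_right l c) fs).f 0)
          (cF f fs (l + c) (-1) 0 (by norm_num) z) ∈
          LinearMap.range (lt M ((kX fs l).d (-1) 0)) :=
        (Submodule.Quotient.mk_eq_zero _).1 (hc (l + c + 1)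
          (Submodule.Quotient.mk (lt M ((kTr (Nat.le_add_right l c) fs).f 0)
            (cF f fs (l + c) (-1) 0 (by norm_num) z)))
          ((Submodule.Quotient.mk_eq_zero _).2 ha))
      obtain ⟨b, hb⟩ := hb
      refine exists_of_fst f fs n hn (Nat.le_add_right l c) (-1) 0 (by norm_num) hTl z hz b ?_
      rw [hb, Nat.add_sub_cancel_left]
    · obtain ⟨m, hl, hS⟩ := ih (i + 1) (by omega) l
      refine ⟨m, hn.trans hl, fun z hz => ?_⟩
      have ha : lt M ((kX fs m).d (i + 1) (i + 1 + 1)) (cF f fs m i (i + 1) rfl z) = 0 := by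
        have := cF_d f fs m i (i + 1) (i + 1 + 1) rfl rfl z
        rw [hz, map_zero] at this
        exact neg_eq_zero.1 this.symm
      obtain ⟨b', hb'⟩ := hS _ ha
      have hb'' : ∃ b : M ⊗[A] (kX fs l).X i, lt M ((kX fs l).d i (i + 1)) b =
          lt M ((kTr hl fs).f (i + 1)) (cF f fs m i (i + 1) rfl z) := by
        have key : ∀ (j : ℤ) (_ : j = i) (b' : M ⊗[A] (kX fs l).X j)
            (_ : lt M ((kX fs l).d j (i + 1)) b' =
              lt M ((kTr hl fs).f (i + 1)) (cF f fs m i (i + 1) rfl z)),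
            ∃ b : M ⊗[A] (kX fs l).X i, lt M ((kX fs l).d i (i + 1)) b =
              lt M ((kTr hl fs).f (i + 1)) (cF f fs m i (i + 1) rfl z) := by
          rintro j rfl b' hb'
          exact ⟨b', hb'⟩
        exact key _ (by omega) b' hb'
      obtain ⟨b, hb⟩ := hb''
      refine exists_of_fst f fs n hn hl i (i + 1) rfl hTl z hz (f ^ (m - l) • b) ?_
      rw [map_smul, hb]

theorem isProAcyclic_ν [IsNoetherianRing A] [Module.Finite A M] (fs : List A) (i : ℤ) (n : ℕ) :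
    ∃ (m : ℕ) (h : n ≤ m), ∀ x : M ⊗[A] (kX fs m).X i,
      lt M ((kX fs m).d i (i + 1)) x = 0 → lt M ((kν fs m).f i) x = 0 →
        ∃ y : M ⊗[A] (kX fs n).X (i - 1),
          lt M ((kν fs n).f (i - 1)) y = 0 ∧
            lt M ((kX fs n).d (i - 1) i) y = lt M ((kTr h fs).f i) x := by
  have hν : ∀ y : M ⊗[A] (kX fs n).X (i - 1), i ≠ 1 → lt M ((kν fs n).f (i - 1)) y = 0 := fun y hi => by
    rw [(HomologicalComplex.isZero_single_obj_X (ComplexShape.up ℤ) 0 (kQ fs n) (i - 1)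
      (by omega)).eq_of_tgt ((kν fs n).f (i - 1)) 0, lt_zero]
  rcases lt_trichotomy i 0 with hi | rfl | hi
  · obtain ⟨m, h, hm⟩ := isProAcyclic_of_neg (M := M) fs i hi n
    refine ⟨m, h, fun x hx _ => ?_⟩
    obtain ⟨y, hy⟩ := hm x hx
    exact ⟨y, hν y (by omega), hy⟩
  · refine ⟨n, le_rfl, fun x _ hx => ?_⟩
    obtain ⟨y, hy⟩ := ((lTensor_exact M (kν_exact fs n) (kν_f_zero_surjective fs n)) x).1 hx
    refine ⟨y, hν y (by omega), ?_⟩
    rw [kTr_refl, HomologicalComplex.id_f, lt_id]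
    exact hy
  · refine ⟨n, le_rfl, fun x _ _ => ⟨0, map_zero _, ?_⟩⟩
    rw [(Koszul15.isZero_X (ModuleCat.of A A) (fs.map (· ^ (n + 1))) i (.inl hi)).eq_of_src
      ((kTr (le_refl n) fs).f i) 0, lt_zero, map_zero]

end Groth.Agent.Der55.Pro
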