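import Groth.Prelude.Def_ega3
import Groth.Prelude.Def_ARSys
import Groth.Agent.Koszul15.Basic
import Mathlib.Algebra.Homology.HomotopyCategory.Pretriangulated

/-!
# The system of Koszul complexes of powers
-/

set_option autoImplicit false
universe u

open CategoryTheory CategoryTheory.Limits Opposite CochainComplex

namespace Groth.Agent.Der55.Pro

variable {A : Type u} [CommRing A]

/-- The Koszul complex of the `(n+1)`-st powers. -/
noncomputable abbrev kX (fs : List A) (n : ℕ) : CochainComplex (ModuleCat.{u} A) ℤ :=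
  CohIII.koszulCx (ModuleCat.of A A) (fs.map (· ^ (n + 1)))

/-- The multiplication whose cone is the next Koszul complex. -/
noncomputable abbrev kφ (f : A) (fs : List A) (n : ℕ) : kX fs n ⟶ kX fs n :=
  f ^ (n + 1) • 𝟙 (kX fs n)

/-- The transition maps. -/
noncomputable def kTr {n m : ℕ} (h : n ≤ m) : ∀ fs : List A, kX fs m ⟶ kX fs n
  | [] => 𝟙 _
  | f :: fs => mappingCone.map (kφ f fs m) (kφ f fs n) (f ^ (m - n) • kTr h fs) (kTr h fs) (by
      simp only [kφ, Linear.smul_comp, Linear.comp_smul, Category.id_comp, Category.comp_id, smul_smul,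
        ← pow_add, show n + 1 + (m - n) = m + 1 by omega])

theorem kTr_cons {n m : ℕ} (h : n ≤ m) (f : A) (fs : List A) :
    kTr h (f :: fs) = mappingCone.map (kφ f fs m) (kφ f fs n) (f ^ (m - n) • kTr h fs) (kTr h fs) (by
      simp only [kφ, Linear.smul_comp, Linear.comp_smul, Category.id_comp, Category.comp_id, smul_smul,
        ← pow_add, show n + 1 + (m - n) = m + 1 by omega]) := rfl

theorem map_congr {C : Type*} [Category C] [Preadditive C] [HasBinaryBiproducts C]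
    {K₁ L₁ K₂ L₂ : CochainComplex C ℤ} (φ₁ : K₁ ⟶ L₁) (φ₂ : K₂ ⟶ L₂) {a a' : K₁ ⟶ K₂} {b b' : L₁ ⟶ L₂}
    (comm : φ₁ ≫ b = a ≫ φ₂) (comm' : φ₁ ≫ b' = a' ≫ φ₂) (ha : a = a') (hb : b = b') :
    mappingCone.map φ₁ φ₂ a b comm = mappingCone.map φ₁ φ₂ a' b' comm' := by
  subst ha hb; rfl

theorem kTr_refl (n : ℕ) : ∀ fs : List A, kTr (le_refl n) fs = 𝟙 (kX fs n) := by
  intro fs
  induction fs with
  | nil => rfl
  | cons f fs ih =>
    rw [kTr_cons, map_congr _ _ _ (by rw [Category.comp_id, Category.id_comp])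
      (a' := 𝟙 _) (b' := 𝟙 _) (by simp [ih]) ih]
    exact mappingCone.map_id _

theorem kTr_trans {n m l : ℕ} (h : n ≤ m) (h' : m ≤ l) :
    ∀ fs : List A, kTr h' fs ≫ kTr h fs = kTr (h.trans h') fs := by
  intro fs
  induction fs with
  | nil => exact Category.comp_id _
  | cons f fs ih =>
    rw [kTr_cons, kTr_cons, kTr_cons]
    refine (mappingCone.map_comp _ _ _ _ _ _ _ _ _).symm.trans (map_congr _ _ _ _ ?_ ih)
    simp only [Linear.smul_comp, Linear.comp_smul, smul_smul, ih, ← pow_add,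
      show m - n + (l - m) = l - n by omega]

/-- The inverse system of Koszul complexes of powers. -/
noncomputable def kW (fs : List A) : ARSys.PS (CochainComplex (ModuleCat.{u} A) ℤ) where
  obj n := kX fs n.unop
  map {m n} φ := kTr (leOfHom φ.unop) fs
  map_id n := kTr_refl n.unop fs
  map_comp φ ψ := (kTr_trans (leOfHom ψ.unop) (leOfHom φ.unop) fs).symm

theorem map_fst {C : Type*} [Category C] [Preadditive C] [HasBinaryBiproducts C]
    {K₁ L₁ K₂ L₂ : CochainComplex C ℤ} (φ₁ : K₁ ⟶ L₁) (φ₂ : K₂ ⟶ L₂) (a : K₁ ⟶ K₂) (b : L₁ ⟶ L₂)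
    (comm : φ₁ ≫ b = a ≫ φ₂) (i j : ℤ) (hij : i + 1 = j) :
    (mappingCone.map φ₁ φ₂ a b comm).f i ≫ (mappingCone.fst φ₂).1.v i j hij =
      (mappingCone.fst φ₁).1.v i j hij ≫ a.f j := by
  rw [mappingCone.ext_from_iff _ j i hij]
  simp [mappingCone.map]

theorem map_snd {C : Type*} [Category C] [Preadditive C] [HasBinaryBiproducts C]
    {K₁ L₁ K₂ L₂ : CochainComplex C ℤ} (φ₁ : K₁ ⟶ L₁) (φ₂ : K₂ ⟶ L₂) (a : K₁ ⟶ K₂) (b : L₁ ⟶ L₂)
    (comm : φ₁ ≫ b = a ≫ φ₂) (i : ℤ) :
    (mappingCone.map φ₁ φ₂ a b comm).f i ≫ (mappingCone.snd φ₂).v i i (add_zero i) =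
      (mappingCone.snd φ₁).v i i (add_zero i) ≫ b.f i := by
  rw [mappingCone.ext_from_iff _ (i + 1) i rfl]
  simp [mappingCone.map]

end Groth.Agent.Der55.Pro
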