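import Groth.Agent.Der55.Pro.KosPro
import Groth.Agent.Der55.Kun.Exact

/-!
# A bounded complex of finite modules tensored with the Koszul system
-/

set_option autoImplicit false
set_option linter.style.haveILetI false
universe u

open CategoryTheory CategoryTheory.Limits Opposite TensorProduct

namespace Groth.Agent.Der55.Pro

open Groth.Agent.Der55.Kun

variable {A : Type u} [CommRing A]

/-- The component of an element of the total complex. -/
noncomputable def comp (K L : DRing.Cx A) {n : ℤ} (ij : HTor.Antidiag n) :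
    (HTor.tensorCx K L).X n →ₗ[A] K.X ij.1.1 ⊗[A] L.X ij.1.2 :=
  DirectSum.component A (HTor.Antidiag n) (fun ij => K.X ij.1.1 ⊗[A] L.X ij.1.2) ij ∘ₗ toSum K L n

variable {K L L' : DRing.Cx A}

theorem comp_tmι_self {i j n : ℤ} (h : i + j = n) (t : K.X i ⊗[A] L.X j) :
    comp K L ⟨(i, j), h⟩ (tmι K L i j n h t) = t := by
  have : comp K L ⟨(i, j), h⟩ ∘ₗ tmι K L i j n h = LinearMap.id := TensorProduct.ext' fun x y => by
    simp only [comp, LinearMap.comp_apply, LinearMap.id_apply]
    rw [show tmι K L i j n h (x ⊗ₜ[A] y) = tm K L n h x y from rfl, toSum_tm]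
    exact DirectSum.component.lof_self A _ _
  exact LinearMap.congr_fun this t

theorem comp_tmι_ne {i j n : ℤ} (h : i + j = n) (ij : HTor.Antidiag n) (hne : ij.1.1 ≠ i)
    (t : K.X i ⊗[A] L.X j) : comp K L ij (tmι K L i j n h t) = 0 := by
  have : comp K L ij ∘ₗ tmι K L i j n h = 0 := TensorProduct.ext' fun x y => by
    simp only [comp, LinearMap.comp_apply, LinearMap.zero_apply]
    rw [show tmι K L i j n h (x ⊗ₜ[A] y) = tm K L n h x y from rfl, toSum_tm,
      DirectSum.component.of, dif_neg]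
    exact fun e => hne (congrArg (fun p : HTor.Antidiag n => p.1.1) e).symm
  exact LinearMap.congr_fun this t

theorem comp_lmap (φ : L ⟶ L') {n : ℤ} (ij : HTor.Antidiag n) (x : (HTor.tensorCx K L).X n) :
    comp K L' ij ((lmap K φ).f n x) = (φ.f ij.1.2).hom.lTensor _ (comp K L ij x) := by
  show DirectSum.component A _ _ ij (toSum K L' n ((lmap K φ).f n x)) = _
  rw [toSum_lmap]
  rfl

theorem comp_d {i i' j j' n n' : ℤ} (h : i + j + 1 = n) (hi : i + 1 = i') (hj : j + 1 = j') (hn : n + 1 = n')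
    (x : (HTor.tensorCx K L).X n) :
    comp K L ⟨(i', j'), by omega⟩ ((HTor.tensorCx K L).d n n' x) =
      (K.d i i').hom.rTensor _ (comp K L ⟨(i, j'), by omega⟩ x) +
        (i'.negOnePow : ℤ) • (L.d j j').hom.lTensor _ (comp K L ⟨(i', j), by omega⟩ x) := by
  have : comp K L ⟨(i', j'), by omega⟩ ∘ₗ ((HTor.tensorCx K L).d n n').hom =
      (K.d i i').hom.rTensor _ ∘ₗ comp K L ⟨(i, j'), by omega⟩ +
        (i'.negOnePow : ℤ) • ((L.d j j').hom.lTensor _ ∘ₗ comp K L ⟨(i', j), by omega⟩) :=
    hom_ext_tm K L fun p q hpq x y => by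
      have e1 : ∀ (p' q' : ℤ) (h' : p' + q' = n') (u : K.X p') (v : L.X q'), p' ≠ i' →
          comp K L ⟨(i', j'), by omega⟩ (tm K L n' h' u v) = 0 := fun p' q' h' u v hne =>
        comp_tmι_ne h' _ (fun e => hne e.symm) _
      have e2 : ∀ (ij : HTor.Antidiag n), ij.1.1 ≠ p → comp K L ij (tm K L n hpq x y) = 0 :=
        fun ij hne => comp_tmι_ne hpq ij hne _
      simp only [LinearMap.comp_apply, LinearMap.add_apply, LinearMap.smul_apply]
      rw [d_tm K L n n' hpq hn, map_add, map_zsmul]
      by_cases hp : p = i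
      · subst hp
        obtain rfl : q = j' := by omega
        subst hi
        rw [e1 p _ _ _ _ (by omega), e2 ⟨(p + 1, j), by omega⟩ (by show p + 1 ≠ p; omega),
          map_zero, smul_zero, smul_zero,
          show comp K L ⟨(p, q), by omega⟩ (tm K L n hpq x y) = x ⊗ₜ[A] y from comp_tmι_self _ _,
          show comp K L ⟨(p + 1, q), by omega⟩ (tm K L n' (by omega) (K.d p (p + 1) x) y) =
            K.d p (p + 1) x ⊗ₜ[A] y from comp_tmι_self _ _]
        simp
      · rw [e1 (p + 1) _ _ _ _ (by omega), e2 ⟨(i, j'), by omega⟩ (fun e => hp e.symm), map_zero,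
          zero_add, zero_add]
        by_cases hp' : p = i'
        · subst hp'
          obtain rfl : q = j := by omega
          subst hj
          rw [show comp K L ⟨(p, q), by omega⟩ (tm K L n hpq x y) = x ⊗ₜ[A] y from comp_tmι_self _ _,
            show comp K L ⟨(p, q + 1), by omega⟩ (tm K L n' (by omega) x (L.d q (q + 1) y)) =
              x ⊗ₜ[A] L.d q (q + 1) y from comp_tmι_self _ _]
          simp
        · rw [e1 p _ _ _ _ hp', e2 ⟨(i', j), by omega⟩ (fun e => hp' e.symm), map_zero, smul_zero,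
            smul_zero]
  exact LinearMap.congr_fun this x

theorem d_tmι {i i' j j' n n' : ℤ} (h : i + j = n) (hi : i + 1 = i') (hj : j + 1 = j') (hn : n + 1 = n')
    (t : K.X i ⊗[A] L.X j) :
    (HTor.tensorCx K L).d n n' (tmι K L i j n h t) =
      tmι K L i' j n' (by omega) ((K.d i i').hom.rTensor _ t) +
        (i.negOnePow : ℤ) • tmι K L i j' n' (by omega) ((L.d j j').hom.lTensor _ t) := by
  have : ((HTor.tensorCx K L).d n n').hom ∘ₗ tmι K L i j n h =
      tmι K L i' j n' (by omega) ∘ₗ (K.d i i').hom.rTensor _ +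
        (i.negOnePow : ℤ) • (tmι K L i j' n' (by omega) ∘ₗ (L.d j j').hom.lTensor _) :=
    TensorProduct.ext' fun x y => by
      simp only [LinearMap.comp_apply, LinearMap.add_apply, LinearMap.smul_apply]
      exact d_tm' K L n n' h hn hi hj x y
  exact LinearMap.congr_fun this t

theorem lmap_tmι (φ : L ⟶ L') {i j n : ℤ} (h : i + j = n) (t : K.X i ⊗[A] L.X j) :
    (lmap K φ).f n (tmι K L i j n h t) = tmι K L' i j n h ((φ.f j).hom.lTensor _ t) := by
  have : ((lmap K φ).f n).hom ∘ₗ tmι K L i j n h = tmι K L' i j n h ∘ₗ (φ.f j).hom.lTensor _ :=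
    TensorProduct.ext' fun x y => lmap_tm K φ n h x y
  exact LinearMap.congr_fun this t

theorem eq_zero_of_comp {n : ℤ} (x : (HTor.tensorCx K L).X n)
    (hx : ∀ ij : HTor.Antidiag n, comp K L ij x = 0) : x = 0 := by
  rw [← fromSum_toSum K L n x, show toSum K L n x = 0 from DFinsupp.ext hx, map_zero]

theorem lmap_kTr_trans (fs : List A) {n l m : ℕ} (h : n ≤ l) (h' : l ≤ m) (i : ℤ)
    (x : (HTor.tensorCx K (kX fs m)).X i) :
    (lmap K (kTr h fs)).f i ((lmap K (kTr h' fs)).f i x) = (lmap K (kTr (h.trans h') fs)).f i x := by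
  rw [← kTr_trans h h' fs, lmap_comp]
  rfl

/-- The induction statement: cycles of the kernel supported on left degrees `≥ c`. -/
theorem exists_proAcyclic_from [IsNoetherianRing A] (hfin : ∀ i, Module.Finite A (K.X i)) {b : ℤ}
    (hb : ∀ i, b < i → IsZero (K.X i)) (fs : List A) (i : ℤ) (d : ℕ) : ∀ (c : ℤ), b < c + d →
    ∀ n : ℕ, ∃ (m : ℕ) (h : n ≤ m), ∀ x : (HTor.tensorCx K (kX fs m)).X i,
      (HTor.tensorCx K (kX fs m)).d i (i + 1) x = 0 → (lmap K (kν fs m)).f i x = 0 →
      (∀ ij : HTor.Antidiag i, ij.1.1 < c → comp K (kX fs m) ij x = 0) →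
        ∃ y : (HTor.tensorCx K (kX fs n)).X (i - 1), (lmap K (kν fs n)).f (i - 1) y = 0 ∧
          (HTor.tensorCx K (kX fs n)).d (i - 1) i y = (lmap K (kTr h fs)).f i x := by
  induction d with
  | zero =>
    intro c hc n
    refine ⟨n, le_rfl, fun x _ _ hx => ⟨0, map_zero _, ?_⟩⟩
    have : x = 0 := eq_zero_of_comp x fun ij => by
      by_cases h : ij.1.1 < c
      · exact hx ij h
      · haveI := ModuleCat.subsingleton_of_isZero (hb ij.1.1 (by omega))
        exact Subsingleton.elim _ _
    rw [this, map_zero, map_zero]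
  | succ d ih =>
    intro c hc n
    obtain ⟨l, hn, hrec⟩ := ih (c + 1) (by omega) n
    haveI := hfin c
    obtain ⟨m, hl, hcomp⟩ := isProAcyclic_ν (M := K.X c) fs (i - c) l
    refine ⟨m, hn.trans hl, fun x hx hνx hlow => ?_⟩
    let xc : K.X c ⊗[A] (kX fs m).X (i - c) := comp K (kX fs m) ⟨(c, i - c), by omega⟩ x
    have h1 : lt (K.X c) ((kX fs m).d (i - c) (i - c + 1)) xc = 0 := by
      have h := comp_d (K := K) (L := kX fs m) (i := c - 1) (i' := c) (j := i - c) (j' := i - c + 1)
        (n := i) (n' := i + 1) (by omega) (by omega) rfl rfl x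
      rw [hx, map_zero, hlow ⟨(c - 1, i - c + 1), by omega⟩ (by show c - 1 < c; omega), map_zero,
        zero_add] at h
      have h' := congrArg ((c.negOnePow : ℤ) • ·) h.symm
      simp only [smul_smul, ← Units.val_mul, Int.units_mul_self, Units.val_one, one_smul,
        smul_zero] at h'
      exact h'
    have h2 : lt (K.X c) ((kν fs m).f (i - c)) xc = 0 := by
      have h := comp_lmap (K := K) (kν fs m) (⟨(c, i - c), by omega⟩ : HTor.Antidiag i) x
      rw [hνx, map_zero] at h
      exact h.symm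
    obtain ⟨yc, hyν, hyd⟩ := hcomp xc h1 h2
    let y₁ : (HTor.tensorCx K (kX fs l)).X (i - 1) :=
      tmι K (kX fs l) c (i - c - 1) (i - 1) (by omega) ((c.negOnePow : ℤ) • yc)
    have hν1 : (lmap K (kν fs l)).f (i - 1) y₁ = 0 := by
      refine (lmap_tmι _ _ _).trans ?_
      rw [map_zsmul, hyν, smul_zero, map_zero]
    let x' : (HTor.tensorCx K (kX fs l)).X i :=
      (lmap K (kTr hl fs)).f i x - (HTor.tensorCx K (kX fs l)).d (i - 1) i y₁
    have hx' : (HTor.tensorCx K (kX fs l)).d i (i + 1) x' = 0 := by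
      have e1 : (HTor.tensorCx K (kX fs l)).d i (i + 1) ((lmap K (kTr hl fs)).f i x) = 0 := by
        refine (congrArg (fun g => g.hom x) ((lmap K (kTr hl fs)).comm i (i + 1))).trans ?_
        show (lmap K (kTr hl fs)).f (i + 1) ((HTor.tensorCx K (kX fs m)).d i (i + 1) x) = 0
        rw [hx, map_zero]
      rw [map_sub, e1, ← LinearMap.comp_apply, ← ModuleCat.hom_comp,
        HomologicalComplex.d_comp_d]
      simp
    have hνx' : (lmap K (kν fs l)).f i x' = 0 := by
      rw [map_sub]
      have e1 : (lmap K (kν fs l)).f i ((lmap K (kTr hl fs)).f i x) = 0 := by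
        rw [← LinearMap.comp_apply, ← ModuleCat.hom_comp, ← HomologicalComplex.comp_f, ← lmap_comp,
          kTr_kν, lmap_comp]
        show (lmap K _).f i ((lmap K (kν fs m)).f i x) = 0
        rw [hνx, map_zero]
      have e2 : (lmap K (kν fs l)).f i ((HTor.tensorCx K (kX fs l)).d (i - 1) i y₁) = 0 := by
        refine (congrArg (fun g => g.hom y₁) ((lmap K (kν fs l)).comm (i - 1) i)).symm.trans ?_
        show (HTor.tensorCx K _).d (i - 1) i ((lmap K (kν fs l)).f (i - 1) y₁) = 0
        rw [hν1, map_zero]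
      rw [e1, e2, sub_zero]
    have hlow' : ∀ ij : HTor.Antidiag i, ij.1.1 < c + 1 → comp K (kX fs l) ij x' = 0 := by
      intro ij hij
      have hd : (HTor.tensorCx K (kX fs l)).d (i - 1) i y₁ =
          tmι K (kX fs l) (c + 1) (i - c - 1) i (by omega)
            ((K.d c (c + 1)).hom.rTensor _ ((c.negOnePow : ℤ) • yc)) +
          tmι K (kX fs l) c (i - c) i (by omega)
            (lt (K.X c) ((kX fs l).d (i - c - 1) (i - c)) yc) := by
        refine (d_tmι (i' := c + 1) (j' := i - c) _ rfl (by omega) (by omega) _).trans ?_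
        rw [map_zsmul (LinearMap.lTensor _ _), map_zsmul (tmι K (kX fs l) c (i - c) i _), smul_smul,
          ← Units.val_mul, Int.units_mul_self, Units.val_one, one_smul]
      rw [map_sub, comp_lmap, hd, map_add, comp_tmι_ne _ ij (by omega), zero_add]
      rcases lt_or_eq_of_le (Int.lt_add_one_iff.1 hij) with h | h
      · rw [hlow ij h, map_zero, comp_tmι_ne _ ij (by omega), sub_zero]
      · obtain ⟨⟨p, q⟩, hpq⟩ := ij
        obtain rfl : c = p := h.symm
        obtain rfl : q = i - c := by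
          have : c + q = i := hpq
          omega
        rw [comp_tmι_self, hyd, sub_self]
    obtain ⟨y, hyν', hyd'⟩ := hrec x' hx' hνx' hlow'
    refine ⟨y + (lmap K (kTr hn fs)).f (i - 1) y₁, ?_, ?_⟩
    · rw [map_add, hyν', ← LinearMap.comp_apply, ← ModuleCat.hom_comp,
        ← HomologicalComplex.comp_f, ← lmap_comp, kTr_kν, lmap_comp]
      show 0 + (lmap K _).f (i - 1) ((lmap K (kν fs l)).f (i - 1) y₁) = 0
      rw [hν1, map_zero, add_zero]
    · rw [map_add, hyd', map_sub, lmap_kTr_trans]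
      have e : (HTor.tensorCx K (kX fs n)).d (i - 1) i ((lmap K (kTr hn fs)).f (i - 1) y₁) =
          (lmap K (kTr hn fs)).f i ((HTor.tensorCx K (kX fs l)).d (i - 1) i y₁) :=
        congrArg (fun g => g.hom y₁) ((lmap K (kTr hn fs)).comm (i - 1) i)
      rw [e, sub_add_cancel]

end Groth.Agent.Der55.Pro
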